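import Cfsg.Agent.Lib.AutPSp.Points

/-!
# Transvection groups of `PSp_{2m}(F)` are permuted by all automorphisms
-/

set_option autoImplicit false

namespace Cfsg.Agent.AutPSp.SylowCentre

open Matrix Cfsg.Agent.Forms.SympStd Cfsg.Agent.Classical.Symplectic Cfsg.Agent.AutPSp.Basic
  Cfsg.Agent.AutPSp.Points

universe u

variable {F : Type u} [Field F] {m : ℕ}

local notation "I" => (Fin m ⊕ Fin m)
local notation "M" => Matrix (Fin m ⊕ Fin m) (Fin m ⊕ Fin m) F
local notation "Vec" => (Fin m ⊕ Fin m → F)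
local notation "Sp" => Matrix.symplecticGroup (Fin m) F
local notation "sf" => Cfsg.sympForm m F

/-- Position of a coordinate in the standard flag. -/
def rk : I → ℕ
  | Sum.inr i => i
  | Sum.inl i => 2 * m - 1 - i

theorem form_inr (v : Vec) (i : Fin m) :
    sf v (Pi.single (Sum.inr i) 1) = -v (Sum.inl i) := by
  simp [sympForm_eq, Pi.single_apply]

/-- `x ↦ x + c (x_{Ej} E_i - x_{Fi} F_j)`. -/
noncomputable def levi (i j : Fin m) (hij : i ≠ j) (c : F) : Sp :=
  let g : Vec →ₗ[F] Vec :=
    { toFun := fun x => x + (c * x (Sum.inr j)) • Pi.single (Sum.inr i) 1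
        - (c * x (Sum.inl i)) • Pi.single (Sum.inl j) 1
      map_add' := fun x y => by simp only [Pi.add_apply, mul_add]; module
      map_smul' := fun a x => by simp only [Pi.smul_apply, smul_eq_mul, RingHom.id_apply]; module }
  let g' : Vec →ₗ[F] Vec :=
    { toFun := fun x => x - (c * x (Sum.inr j)) • Pi.single (Sum.inr i) 1
        + (c * x (Sum.inl i)) • Pi.single (Sum.inl j) 1
      map_add' := fun x y => by simp only [Pi.add_apply, mul_add]; module
      map_smul' := fun a x => by simp only [Pi.smul_apply, smul_eq_mul, RingHom.id_apply]; module }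
  ofEquiv (LinearEquiv.ofLinear g g'
    (LinearMap.ext fun x => by
      change g (g' x) = x
      simp [g, g', hij, hij.symm]
      module)
    (LinearMap.ext fun x => by
      change g' (g x) = x
      simp [g, g', hij, hij.symm]
      module))
    fun u v => by
      change sf (g u) (g v) = sf u v
      simp [g, sub_eq_add_neg, ← neg_smul, f_add_left, f_add_right, f_smul_left, f_smul_right,
        sympForm_inr_inr, sympForm_inl_inl, sympForm_inr_inl, sympForm_inl_inr, hij, hij.symm]
      simp [sympForm_swap v, form_inr, sympForm_eq, Pi.single_apply]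
      ring

theorem levi_mulVec (i j : Fin m) (hij : i ≠ j) (c : F) (x : Vec) :
    ((levi i j hij c : Sp) : M) *ᵥ x = x + (c * x (Sum.inr j)) • Pi.single (Sum.inr i) 1
        - (c * x (Sum.inl i)) • Pi.single (Sum.inl j) 1 := by
  rw [levi, ofEquiv_mulVec]
  rfl

theorem sub_one_apply (A : Sp) (k l : I) :
    ((A : M) - 1) k l = ((A : M) *ᵥ Pi.single l 1 - Pi.single l 1 : Vec) k := by
  simp [Matrix.one_apply, Pi.single_apply]

/-- Matrices unitriangular for the standard flag. -/
def upper : Submonoid Sp where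
  carrier := {A | ∀ k l : I, rk l ≤ rk k → ((A : M) - 1) k l = 0}
  one_mem' := fun k l _ => by simp
  mul_mem' := fun {A B} hA hB k l h => by
    have : ((A * B : Sp) : M) - 1 =
        ((A : M) - 1) + ((B : M) - 1) + ((A : M) - 1) * ((B : M) - 1) := by
      rw [Submonoid.coe_mul]; noncomm_ring
    rw [this, Matrix.add_apply, Matrix.add_apply, hA k l h, hB k l h, Matrix.mul_apply,
      Finset.sum_eq_zero, add_zero, add_zero]
    intro x _
    by_cases hx : rk x ≤ rk k
    · rw [hA k x hx, zero_mul]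
    · rw [hB x l (le_trans h (not_le.1 hx).le), mul_zero]

theorem tv_mem_upper {v : Vec} (hv : ∀ i, v (Sum.inl i) = 0) (c : F) : tv v c ∈ (upper : Submonoid Sp) := by
  intro k l h
  rw [sub_one_apply, tv_mulVec, add_sub_cancel_left, Pi.smul_apply]
  rcases k with i | i
  · rw [hv i, smul_zero]
  · rcases l with j | j
    · exfalso
      simp only [rk] at h
      have := i.isLt; have := j.isLt
      omega
    · rw [sympForm_swap, form_inr, hv j]; simp

theorem levi_mem_upper {i j : Fin m} (hij : i < j) (c : F) :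
    levi i j hij.ne c ∈ (upper : Submonoid Sp) := by
  intro k l h
  rw [sub_one_apply, levi_mulVec]
  have hij' : (i : ℕ) < j := hij
  have := j.isLt
  rcases k with a | a <;> rcases l with b | b
  · have := a.isLt; have := b.isLt
    simp only [rk] at h
    by_cases ha : a = j
    · by_cases hb : i = b
      · subst ha hb; omega
      · simp [Pi.single_apply, hb]
    · simp [Pi.single_apply, ha, apply_ite (fun v : Vec => v (Sum.inl a))]
  · simp [Pi.single_apply, apply_ite (fun v : Vec => v (Sum.inl a))]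
  · have := a.isLt; have := b.isLt
    simp only [rk] at h
    omega
  · simp only [rk] at h
    by_cases ha : a = i
    · by_cases hb : j = b
      · subst ha hb; omega
      · simp [Pi.single_apply, hb]
    · simp [Pi.single_apply, ha, apply_ite (fun v : Vec => v (Sum.inr a))]

section Finite

variable (p : ℕ) [Fact p.Prime] [CharP F p]

theorem pow_mem_upper {A : Sp} (hA : A ∈ (upper : Submonoid Sp)) :
    ∃ j : ℕ, A ^ p ^ j = 1 := by
  classical
  set N := (A : M) - 1 with hN
  have hpow : ∀ n : ℕ, ∀ k l : I, rk l < rk k + n → (N ^ n) k l = 0 := by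
    intro n
    induction n with
    | zero => intro k l h; rw [pow_zero, Matrix.one_apply_ne fun e => by subst e; omega]
    | succ n ih =>
      intro k l h
      rw [pow_succ', Matrix.mul_apply]
      refine Finset.sum_eq_zero fun x _ => ?_
      by_cases hx : rk x ≤ rk k
      · rw [show N k x = 0 from hA k x hx, zero_mul]
      · rw [ih x l (by omega), mul_zero]
  refine ⟨2 * m, Subtype.ext ?_⟩
  have hNp : N ^ p ^ (2 * m) = 0 := by
    ext k l
    refine hpow _ k l (Nat.lt_of_lt_of_le (m := 2 * m + 1) ?_ ?_)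
    · rcases l with i | i <;> simp only [rk] <;> omega
    · have := Nat.lt_pow_self (n := 2 * m) (Fact.out : p.Prime).one_lt
      omega
  rw [SubmonoidClass.coe_pow, show (A : M) = 1 + N by rw [hN, add_sub_cancel]]
  have : Nonempty I ∨ IsEmpty I := (isEmpty_or_nonempty I).symm
  rcases this with h | h
  · have : CharP M p := inferInstance
    rw [add_pow_char_pow_of_commute (p := p) (n := 2 * m) (Commute.one_left N), one_pow, hNp, add_zero]
    rfl
  · exact Subsingleton.elim _ _

variable [Finite F]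

/-- `upper` is a `p`-subgroup. -/
def upperSubgroup : Subgroup Sp where
  toSubmonoid := upper
  inv_mem' := fun {A} hA => by
    have h : IsOfFinOrder A := isOfFinOrder_of_finite A
    rw [show A⁻¹ = A ^ (orderOf A - 1) from inv_eq_of_mul_eq_one_right (by
      rw [← pow_succ', Nat.sub_add_cancel h.orderOf_pos, pow_orderOf_eq_one])]
    exact pow_mem (show A ∈ (upper : Submonoid Sp) from hA) _

theorem isPGroup_upper : IsPGroup p (upperSubgroup : Subgroup Sp) := fun A => by
  obtain ⟨j, hj⟩ := pow_mem_upper p A.2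
  exact ⟨j, Subtype.ext hj⟩

theorem scalar_eq_one {P : Subgroup Sp} (hP : IsPGroup p P) {A : Sp} (hA : A ∈ P) {a : F} {v : Vec}
    (hv : v ≠ 0) (h : (A : M) *ᵥ v = a • v) : a = 1 := by
  obtain ⟨k, hk⟩ := hP ⟨A, hA⟩
  have hk' : A ^ p ^ k = 1 := congrArg Subtype.val hk
  have hpw : ∀ n : ℕ, ((A ^ n : Sp) : M) *ᵥ v = a ^ n • v := fun n => by
    induction n with
    | zero => simp
    | succ n ih => rw [pow_succ', mul_mulVec_sp, ih, Matrix.mulVec_smul, h, smul_smul, ← pow_succ]
  have h1 := hpw (p ^ k)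
  rw [hk', OneMemClass.coe_one, Matrix.one_mulVec] at h1
  have h2 : a ^ p ^ k = 1 := by
    have h3 : (a ^ p ^ k - 1) • v = 0 := by rw [sub_smul, one_smul, ← h1, sub_self]
    exact sub_eq_zero.1 ((smul_eq_zero.1 h3).resolve_right hv)
  exact (iterateFrobenius_inj F p k) (by simp [iterateFrobenius_def, h2])

theorem mk_inj {P : Subgroup Sp} (hP : IsPGroup p P) (hm : 1 ≤ m) {A B : Sp} (hA : A ∈ P) (hB : B ∈ P)
    (h : (QuotientGroup.mk A : PSp m F) = QuotientGroup.mk B) : A = B := by
  rw [QuotientGroup.eq, mem_center_iff] at h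
  obtain ⟨a, ha⟩ := h
  have ha1 := scalar_eq_one p hP (mul_mem (inv_mem hA) hB) (single_ne_zero (Sum.inl ⟨0, hm⟩ : I)) (ha _)
  refine inv_mul_eq_one.1 (sp_ext fun v => ?_)
  rw [ha, ha1, one_smul, OneMemClass.coe_one, Matrix.one_mulVec]

theorem fixed_upper (hm : 1 ≤ m) {v : Vec}
    (h : ∀ A ∈ (upperSubgroup : Subgroup Sp), (A : M) *ᵥ v = v) :
    v = v (Sum.inr ⟨0, hm⟩) • Pi.single (Sum.inr ⟨0, hm⟩) 1 := by
  have hF : ∀ i, v (Sum.inl i) = 0 := fun i => by
    have h1 := h (tv (Pi.single (Sum.inr i) 1) 1) (tv_mem_upper (fun j => by simp) 1)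
    rw [tv_mulVec, form_inr, add_eq_left] at h1
    simpa using congrFun h1 (Sum.inr i)
  have hE : ∀ j : Fin m, j ≠ ⟨0, hm⟩ → v (Sum.inr j) = 0 := fun j hj => by
    have hlt : (⟨0, hm⟩ : Fin m) < j :=
      Fin.lt_def.2 (Nat.pos_of_ne_zero fun h0 => hj (Fin.ext h0))
    have h1 := h _ (levi_mem_upper hlt (1 : F))
    rw [levi_mulVec] at h1
    simpa [hF] using congrFun h1 (Sum.inr ⟨0, hm⟩)
  funext k
  rcases k with i | i
  · simp [hF]
  · by_cases hi : i = ⟨0, hm⟩
    · subst hi; simp
    · simp [hi, hE i hi]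

theorem exists_sylow (hm : 1 ≤ m) : ∃ P : Sylow p Sp, upperSubgroup ≤ (P : Subgroup Sp) ∧
    ∀ A ∈ (P : Subgroup Sp), (A : M) *ᵥ Pi.single (Sum.inr ⟨0, hm⟩) 1 = Pi.single (Sum.inr ⟨0, hm⟩) 1 := by
  classical
  obtain ⟨P, hP⟩ := (isPGroup_upper (F := F) (m := m) p).exists_le_sylow
  refine ⟨P, hP, ?_⟩
  have : Fintype F := Fintype.ofFinite F
  have hdvd : p ∣ Nat.card Vec := by
    rw [Nat.card_eq_fintype_card, Fintype.card_fun]
    obtain ⟨a, -, ha⟩ := FiniteField.card F p
    rw [ha, ← pow_mul]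
    refine dvd_pow_self _ ?_
    simp
    omega
  obtain ⟨b, hb, hne⟩ := P.2.exists_fixed_point_of_prime_dvd_card_of_fixed_point Vec hdvd (a := 0)
    (fun A => by
      change ((A : Sp) : M) *ᵥ (0 : Vec) = 0
      exact Matrix.mulVec_zero _)
  have hb' : ∀ A ∈ (P : Subgroup Sp), (A : M) *ᵥ b = b := fun A hA => hb ⟨A, hA⟩
  have hform := fixed_upper hm fun A hA => hb' A (hP hA)
  have hc : b (Sum.inr ⟨0, hm⟩) ≠ 0 := fun h0 => hne (by rw [hform, h0, zero_smul])
  intro A hA
  have h1 := hb' A hA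
  rw [hform, Matrix.mulVec_smul] at h1
  exact smul_right_injective _ hc h1

/-- `x ↦ x + a x_{F0} E0 + b (x_{F0} E1 + x_{F1} E0)`. -/
def centreOp (hm : 2 ≤ m) (a b : F) (x : Vec) : Vec :=
  x + (a * x (Sum.inl ⟨0, by omega⟩) + b * x (Sum.inl ⟨1, by omega⟩)) • Pi.single (Sum.inr ⟨0, by omega⟩) 1
    + (b * x (Sum.inl ⟨0, by omega⟩)) • Pi.single (Sum.inr ⟨1, by omega⟩) 1

theorem centre_form (hm : 2 ≤ m) {P : Subgroup Sp} (hP : IsPGroup p P) (hU : upperSubgroup ≤ P)
    {z : Sp} (hz : z ∈ P) (hc : ∀ A ∈ (upperSubgroup : Subgroup Sp), z * A = A * z) :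
    ∃ a b : F, 2 * b = 0 ∧ ∀ x, (z : M) *ᵥ x = centreOp hm a b x := by
  classical
  set i0 : Fin m := ⟨0, by omega⟩ with hi0
  set i1 : Fin m := ⟨1, by omega⟩ with hi1
  have h01 : i0 ≠ i1 := by simp [hi0, hi1]
  have hfix : ∀ v : Vec, (∀ i, v (Sum.inl i) = 0) → (z : M) *ᵥ v = v := by
    intro v hv
    by_cases hv0 : v = 0
    · subst hv0; exact Matrix.mulVec_zero _
    have h1 := hc _ (tv_mem_upper hv 1)
    obtain ⟨y, hy⟩ := exists_partner hv0
    have hy' : sf y v = -1 := by rw [sympForm_swap, hy]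
    have h2 := congrArg (fun A : Sp => (A : M) *ᵥ y) h1
    simp only [mul_mulVec_sp, tv_mulVec, Matrix.mulVec_add, Matrix.mulVec_smul, hy', one_mul] at h2
    have h3 := add_left_cancel h2
    obtain ⟨c, hc'⟩ : ∃ c : F, (z : M) *ᵥ v = c • v :=
      ⟨-sf ((z : M) *ᵥ y) v, by
        rw [neg_one_smul] at h3
        rw [neg_smul, ← h3, neg_neg]⟩
    rw [hc', scalar_eq_one p hP hz hv0 hc', one_smul]
  set col : Fin m → Vec := fun l => (z : M) *ᵥ Pi.single (Sum.inl l) 1
  have hcol : ∀ l i, col l (Sum.inl i) = if i = l then 1 else 0 := by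
    intro l i
    have h1 := sympForm_mulVec z (Pi.single (Sum.inl l) 1) (Pi.single (Sum.inr i) 1)
    rw [hfix (Pi.single (Sum.inr i) 1) (fun j => by simp), form_inr, form_inr] at h1
    simpa [col, Pi.single_apply] using neg_injective h1
  set S : Fin m → Fin m → F := fun i l => col l (Sum.inr i) with hS
  have hsym : ∀ i l, S i l = S l i := by
    intro i l
    have h1 := sympForm_mulVec z (Pi.single (Sum.inl l) 1) (Pi.single (Sum.inl i) 1)
    change sf (col l) (col i) = _ at h1
    rw [sympForm_inl_inl, sympForm_eq] at h1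
    simp only [hcol, Finset.sum_sub_distrib, mul_ite, mul_one, mul_zero, ite_mul, one_mul, zero_mul,
      Finset.sum_ite_eq', Finset.mem_univ, if_true, sub_eq_zero] at h1
    exact h1
  have hlev : ∀ i j : Fin m, i < j → ∀ l k, (if k = i then S j l else 0) = if l = i then -S k j else 0 := by
    intro i j hij l k
    have hL : ((levi i j hij.ne (1 : F) : Sp) : M) *ᵥ Pi.single (Sum.inl l) 1 =
        Pi.single (Sum.inl l) 1 - (if l = i then (1 : F) else 0) • Pi.single (Sum.inl j) 1 := by
      rw [levi_mulVec]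
      simp [Pi.single_apply, eq_comm]
    have h1 := congrArg (fun A : Sp => (A : M) *ᵥ Pi.single (Sum.inl l) 1)
      (hc _ (levi_mem_upper hij (1 : F)))
    simp only [mul_mulVec_sp] at h1
    rw [hL, Matrix.mulVec_sub, Matrix.mulVec_smul] at h1
    change col l - (if l = i then (1 : F) else 0) • col j = _ *ᵥ col l at h1
    rw [levi_mulVec] at h1
    have h2 := congrFun h1 (Sum.inr k)
    rw [Pi.sub_apply, Pi.sub_apply, Pi.add_apply, Pi.smul_apply, Pi.smul_apply, Pi.smul_apply,
      Pi.single_apply, Pi.single_apply] at h2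
    simp only [smul_eq_mul, Sum.inr.injEq, reduceCtorEq, if_false, mul_zero, sub_zero, one_mul] at h2
    simp only [hS] at *
    split_ifs at h2 ⊢ <;> linear_combination -h2
  have hzero : ∀ j : Fin m, j ≠ i0 → ∀ k, k ≠ i0 → S j k = 0 := by
    intro j hj k hk
    have hlt : i0 < j := Fin.lt_def.2 (Nat.pos_of_ne_zero fun h0 => hj (Fin.ext h0))
    have := hlev i0 j hlt k i0
    simpa [hk] using this
  have hzero' : ∀ j : Fin m, j ≠ i0 → j ≠ i1 → S j i0 = 0 := by
    intro j hj hj1
    have hlt : i1 < j := Fin.lt_def.2 (by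
      have h0 : (j : ℕ) ≠ 0 := fun h0 => hj (Fin.ext h0)
      have h1 : (j : ℕ) ≠ 1 := fun h0 => hj1 (Fin.ext h0)
      simp [hi1]; omega)
    have := hlev i1 j hlt i0 i1
    simpa [h01] using this
  refine ⟨S i0 i0, S i1 i0, ?_, fun x => ?_⟩
  · have hlt : i0 < i1 := Fin.lt_def.2 (by simp [hi0, hi1])
    have := hlev i0 i1 hlt i0 i0
    rw [if_pos rfl, if_pos rfl, hsym i0 i1] at this
    linear_combination this
  · set T : Vec →ₗ[F] Vec :=
      { toFun := centreOp hm (S i0 i0) (S i1 i0)
        map_add' := fun u v => by simp only [centreOp, Pi.add_apply, mul_add]; module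
        map_smul' := fun c u => by simp only [centreOp, Pi.smul_apply, smul_eq_mul, RingHom.id_apply]; module }
    have : Matrix.toLin' (z : M) = T := by
      refine LinearMap.pi_ext' fun k => LinearMap.ext_ring ?_
      simp only [LinearMap.coe_comp, LinearMap.coe_single, Function.comp_apply, Matrix.toLin'_apply]
      change _ = centreOp hm (S i0 i0) (S i1 i0) (Pi.single k 1)
      rcases k with l | l
      · funext k
        change col l k = _
        rcases k with i | i
        · rw [hcol]; simp [centreOp, Pi.single_apply, apply_ite (fun v : Vec => v (Sum.inl i))]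
        · change S i l = _
          by_cases hl : l = i0
          · subst hl
            by_cases hi : i = i0
            · subst hi; simp [centreOp, hi0, Pi.single_apply]
            · by_cases hi' : i = i1
              · subst hi'; simp [centreOp, hi0, hi1, Pi.single_apply]
              · rw [hzero' i hi hi']; simp [centreOp, Pi.single_apply, ← hi0, ← hi1, hi, hi']
          · by_cases hi : i = i0
            · subst hi
              rw [hsym]
              by_cases hl' : l = i1
              · subst hl'; simp [centreOp, hi0, hi1, Pi.single_apply]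
              · rw [hzero' l hl hl']
                simp [centreOp, Pi.single_apply, ← hi0, ← hi1, Ne.symm hl, Ne.symm hl']
            · rw [hzero i hi l hl]
              simp [centreOp, Pi.single_apply, ← hi0, ← hi1, hi, Ne.symm hl, apply_ite (fun v : Vec => v (Sum.inr i))]
      · rw [hfix _ fun i => by simp]
        simp [centreOp]
    rw [← Matrix.toLin'_apply, this]
    rfl

/-- The invariant that singles out transvections in characteristic two. -/
def OddProduct {G : Type*} [Group G] (x : G) : Prop :=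
  ∀ g : G, Commute x (g * x * g⁻¹) ∨ Odd (orderOf (x * (g * x * g⁻¹)))

theorem OddProduct.map {G : Type*} [Group G] {x : G} (h : OddProduct x) (β : MulAut G) :
    OddProduct (β x) := fun g => by
  have e : g * β x * g⁻¹ = β (β⁻¹ g * x * (β⁻¹ g)⁻¹) := by
    rw [map_mul, map_mul, map_inv, MulAut.apply_inv_self]
  rcases h (β⁻¹ g) with hc | ho
  · exact Or.inl (e ▸ hc.map β.toMonoidHom)
  · exact Or.inr (by rwa [e, ← map_mul, β.orderOf_eq])

theorem oddProduct_tv [CharP F 2] {v : Vec} (hv : v ≠ 0) (c : F) :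
    OddProduct (QuotientGroup.mk (tv v c) : PSp m F) := by
  intro g
  induction g using QuotientGroup.induction_on with | H s => ?_
  rw [← QuotientGroup.mk_inv, ← QuotientGroup.mk_mul, ← QuotientGroup.mk_mul, tv_conj]
  set w := (s : M) *ᵥ v
  by_cases hvw : sf v w = 0
  · exact Or.inl ((commute_rootX_iff hv).2 hvw _ (mem_rootX.2 ⟨c, rfl⟩) _ (mem_rootX.2 ⟨c, rfl⟩))
  refine Or.inr (Odd.of_dvd_nat ?_ (orderOf_map_dvd (QuotientGroup.mk' (Subgroup.center Sp)) (tv v c * tv w c)))
  rw [← Nat.not_even_iff_odd]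
  intro hev
  have hsq : ∀ u : Vec, tv u c * tv u c = (1 : Sp) := fun u => by
    rw [tv_mul, CharTwo.add_self_eq_zero, tv_zero]
  set x := tv v c
  set y := tv w c
  set T := x * y with hT
  obtain ⟨k, hk⟩ := hev
  have hk0 : 0 < k := by
    have := (isOfFinOrder_of_finite T).orderOf_pos
    omega
  have hinv : x * T * x⁻¹ = T⁻¹ := by
    rw [hT, _root_.mul_inv_rev, inv_eq_of_mul_eq_one_right (hsq v), inv_eq_of_mul_eq_one_right (hsq w),
      ← mul_assoc x x y, hsq, one_mul]
  have hTk : T ^ k * T ^ k = 1 := by rw [← pow_add, ← hk, pow_orderOf_eq_one]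
  have hcx : x * T ^ k = T ^ k * x := by
    have h1 : x * T ^ k * x⁻¹ = T ^ k := by
      rw [← conj_pow, hinv, inv_pow, inv_eq_of_mul_eq_one_right hTk]
    exact mul_inv_eq_iff_eq_mul.1 h1
  have hcy : y * T ^ k = T ^ k * y := by
    have hy : y = x * T := by rw [hT, ← mul_assoc, hsq, one_mul]
    rw [hy, mul_assoc, ← (Commute.pow_self T k).eq, ← mul_assoc, hcx, mul_assoc]
  have hperp : ∀ z : Vec, sf z v = 0 → sf z w = 0 → ∀ n : ℕ, ((T ^ n : Sp) : M) *ᵥ z = z := by
    intro z hzv hzw n
    induction n with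
    | zero => simp
    | succ n ih => rw [pow_succ', mul_mulVec_sp, ih, hT, mul_mulVec_sp, show y = tv w c from rfl,
        show x = tv v c from rfl, tv_mulVec, tv_mulVec, hzw, mul_zero, zero_smul, add_zero, hzv, mul_zero,
        zero_smul, add_zero]
  have hne : T ^ k ≠ 1 := fun h1 => by
    have := Nat.le_of_dvd hk0 (orderOf_dvd_iff_pow_eq_one.2 h1)
    omega
  by_cases hc0 : c = 0
  · exact hne (by simp [hT, x, y, hc0, tv_zero])
  have hfix : ∀ u : Vec, u ≠ 0 → tv u c * T ^ k = T ^ k * tv u c → ((T ^ k : Sp) : M) *ᵥ u = u := by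
    intro u hu hcomm
    obtain ⟨z, hz⟩ := exists_partner hu
    have h2 := congrArg (fun A : Sp => (A : M) *ᵥ z) hcomm
    simp only [mul_mulVec_sp, tv_mulVec, Matrix.mulVec_add, Matrix.mulVec_smul] at h2
    have h3 := add_left_cancel h2
    obtain ⟨b, hb⟩ : ∃ b : F, ((T ^ k : Sp) : M) *ᵥ u = b • u := by
      refine ⟨sf (((T ^ k : Sp) : M) *ᵥ z) u / sf z u, ?_⟩
      have hzu : sf z u = -1 := by rw [sympForm_swap, hz]
      refine smul_right_injective _ (mul_ne_zero hc0 (hzu ▸ neg_ne_zero.2 one_ne_zero : sf z u ≠ 0)) ?_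
      change (c * sf z u) • _ = (c * sf z u) • _
      rw [← h3, smul_smul, mul_assoc, mul_div_cancel₀ _ (by rw [hzu]; simp)]
    have hb2 : b * b = 1 := by
      have h4 := congrArg (fun A : Sp => (A : M) *ᵥ u) hTk
      simp only [mul_mulVec_sp, hb, Matrix.mulVec_smul, OneMemClass.coe_one, Matrix.one_mulVec,
        smul_smul] at h4
      have h5 : (b * b - 1) • u = 0 := by rw [sub_smul, one_smul, h4, sub_self]
      exact sub_eq_zero.1 ((smul_eq_zero.1 h5).resolve_right hu)
    have hb1 : b = 1 := by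
      have h6 : (b + 1) * (b + 1) = 0 := by
        rw [add_mul, mul_add, hb2, one_mul, mul_one]
        linear_combination CharTwo.add_self_eq_zero (1 : F) + CharTwo.add_self_eq_zero b
      exact CharTwo.add_eq_zero.1 (mul_self_eq_zero.1 h6)
    rw [hb, hb1, one_smul]
  have hw0 : w ≠ 0 := fun h0 => hvw (by
    rw [h0, show (0 : Vec) = (0 : F) • v by simp, f_smul_right, zero_mul])
  refine hne (sp_ext fun z => ?_)
  rw [OneMemClass.coe_one, Matrix.one_mulVec]
  have hwv : sf w v = -sf v w := sympForm_swap v w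
  set a := sf z w / sf v w
  set b := sf z v / sf w v
  have hz : z = a • v + b • w + (z - a • v - b • w) := by module
  have hfix' := hperp (z - a • v - b • w) ?_ ?_ k
  · conv_lhs => rw [hz, Matrix.mulVec_add, Matrix.mulVec_add, Matrix.mulVec_smul, Matrix.mulVec_smul,
      hfix v hv hcx, hfix w hw0 hcy, hfix']
    exact hz.symm
  · rw [sub_eq_add_neg, sub_eq_add_neg, ← neg_smul, ← neg_smul, f_add_left, f_add_left, f_smul_left,
      f_smul_left, sympForm_self, neg_mul _ (sf w v), div_mul_cancel₀ _ (by rw [hwv]; exact neg_ne_zero.2 hvw)]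
    ring
  · rw [sub_eq_add_neg, sub_eq_add_neg, ← neg_smul, ← neg_smul, f_add_left, f_add_left, f_smul_left,
      f_smul_left, sympForm_self, neg_mul _ (sf v w), div_mul_cancel₀ _ hvw]
    ring

theorem centre_not_oddProduct [CharP F 2] (hm : 3 ≤ m) {z : Sp} {a b : F} (hb : b ≠ 0)
    (hz : ∀ x, (z : M) *ᵥ x = centreOp (by omega) a b x) :
    ¬ OddProduct (QuotientGroup.mk z : PSp m F) := by
  classical
  intro hP
  set i0 : Fin m := ⟨0, by omega⟩ with hi0
  set i1 : Fin m := ⟨1, by omega⟩ with hi1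
  set i2 : Fin m := ⟨2, by omega⟩ with hi2
  have h01 : i0 ≠ i1 := by simp [hi0, hi1]
  have h02 : i0 ≠ i2 := by simp [hi0, hi2]
  have h12 : i1 ≠ i2 := by simp [hi1, hi2]
  -- the coordinate permutation `E0 ↔ E2`, `F0 ↔ F2`, `E1 ↔ F1`
  let ρ : I → I := fun k =>
    if k = Sum.inr i1 then Sum.inl i1 else if k = Sum.inl i1 then Sum.inr i1
    else Sum.map (Equiv.swap i0 i2) (Equiv.swap i0 i2) k
  have hρ : Function.Involutive ρ := by
    intro k
    rcases k with i | i <;> by_cases h : i = i1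
    · subst h; simp [ρ]
    · have h' : Equiv.swap i0 i2 i ≠ i1 := fun e => h (by
        rw [← Equiv.swap_apply_self i0 i2 i, e, Equiv.swap_apply_of_ne_of_ne h01.symm h12])
      simp [ρ, h, h']
    · subst h; simp [ρ]
    · have h' : Equiv.swap i0 i2 i ≠ i1 := fun e => h (by
        rw [← Equiv.swap_apply_self i0 i2 i, e, Equiv.swap_apply_of_ne_of_ne h01.symm h12])
      simp [ρ, h, h']
  let G : Sp := ofEquiv (LinearEquiv.funCongrLeft F F hρ.toPerm) fun u v => by
    simp only [LinearEquiv.funCongrLeft_apply, LinearMap.funLeft_apply, sympForm_eq, Function.Involutive.coe_toPerm]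
    refine Fintype.sum_equiv (Equiv.swap i0 i2) _ _ fun i => ?_
    by_cases h : i = i1
    · subst h
      rw [Equiv.swap_apply_of_ne_of_ne h01.symm h12]
      simp [ρ]
      linear_combination CharTwo.add_self_eq_zero (u (Sum.inl i1) * v (Sum.inr i1))
        - CharTwo.add_self_eq_zero (u (Sum.inr i1) * v (Sum.inl i1))
    · simp [ρ, h]
  have hG : ∀ x : Vec, (G : M) *ᵥ x = fun k => x (ρ k) := fun x => by
    rw [ofEquiv_mulVec]; rfl
  have hGG : G * G = 1 := sp_ext fun x => by
    rw [mul_mulVec_sp, hG, hG, OneMemClass.coe_one, Matrix.one_mulVec]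
    funext k; simp [hρ k]
  set z' := G * z * G⁻¹ with hz'
  have hz'x : ∀ x : Vec, (z' : M) *ᵥ x = x + (a * x (Sum.inl i2) + b * x (Sum.inr i1)) • Pi.single (Sum.inr i2) 1
      + (b * x (Sum.inl i2)) • Pi.single (Sum.inl i1) 1 := by
    intro x
    rw [hz', inv_eq_of_mul_eq_one_right hGG, mul_mulVec_sp, mul_mulVec_sp, hG, hG, hz, centreOp]
    funext k
    have e1 : ρ (Sum.inl i0) = Sum.inl i2 := by simp [ρ, h01]
    have e2 : ρ (Sum.inl i1) = Sum.inr i1 := by simp [ρ]
    have e3 : ∀ l, ρ k = l ↔ k = ρ l := fun l => ⟨fun e => by rw [← e, hρ k], fun e => by rw [e, hρ l]⟩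
    have e4 : ρ (Sum.inr i0) = Sum.inr i2 := by simp [ρ, h01]
    have e5 : ρ (Sum.inr i1) = Sum.inl i1 := by simp [ρ]
    simp [← hi0, ← hi1, Pi.single_apply, e1, e2, e3, e4, e5, hρ k]
  set T := z * z' with hT
  set S : Vec → Vec := fun x => x + (b * (b * x (Sum.inl i2))) • Pi.single (Sum.inr i0) 1
    + (b * (b * x (Sum.inl i0))) • Pi.single (Sum.inr i2) 1 with hS
  have hT2 : ∀ x : Vec, ((T * T : Sp) : M) *ᵥ x = S x := by
    intro x
    simp only [hT, mul_mulVec_sp, hz, hz'x, centreOp, ← hi0, ← hi1, hS]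
    funext k
    simp [Pi.single_apply, h01, h02, h12, h01.symm, h02.symm, h12.symm]
    rcases k with k | k <;> simp <;> split_ifs <;> subst_vars <;>
      first
      | contradiction
      | linear_combination (b ^ 2 * x (Sum.inl i2)) * CharTwo.two_eq_zero (R := F)
      | linear_combination (b ^ 2 * x (Sum.inl i0)) * CharTwo.two_eq_zero (R := F)
      | (ring_nf <;> simp [CharTwo.two_eq_zero, show (3 : F) = 1 by linear_combination CharTwo.two_eq_zero (R := F)])
  have hT2ne : T * T ≠ 1 := fun h => by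
    have h1 := congrFun (hT2 (Pi.single (Sum.inl i2) 1)) (Sum.inr i0)
    rw [h] at h1
    simp [hS, h02, h02.symm, hb] at h1
  have hT4 : T ^ 4 = 1 := sp_ext fun x => by
    rw [show T ^ 4 = (T * T) * (T * T) by rw [show (4 : ℕ) = 2 + 2 from rfl, pow_add, pow_two],
      mul_mulVec_sp, hT2, hT2, OneMemClass.coe_one, Matrix.one_mulVec]
    simp only [hS]
    funext k
    simp [Pi.single_apply]
    split_ifs <;> ring_nf <;> simp [CharTwo.two_eq_zero]
  have hinj : ∀ A : Sp, (QuotientGroup.mk A : PSp m F) = 1 → A = 1 := fun A hA => by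
    rw [QuotientGroup.eq_one_iff, mem_center_iff] at hA
    obtain ⟨t, ht⟩ := hA
    have h1 := sympForm_mulVec A (Pi.single (Sum.inr i0) 1) (Pi.single (Sum.inl i0) 1)
    rw [ht, ht, f_smul_left, f_smul_right, sympForm_inr_inl, if_pos rfl, mul_one] at h1
    have ht1 : t = 1 := by
      refine CharTwo.add_eq_zero.1 (mul_self_eq_zero.1 ?_)
      linear_combination h1 + CharTwo.add_self_eq_zero (1 : F) + CharTwo.add_self_eq_zero t
    exact sp_ext fun v => by rw [ht, ht1, one_smul, OneMemClass.coe_one, Matrix.one_mulVec]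
  have hord : orderOf (QuotientGroup.mk T : PSp m F) = orderOf T :=
    orderOf_injective (QuotientGroup.mk' (Subgroup.center Sp))
      ((injective_iff_map_eq_one _).2 hinj) T
  have hsq : z * z = 1 := sp_ext fun x => by
    rw [mul_mulVec_sp, hz, hz, OneMemClass.coe_one, Matrix.one_mulVec]
    simp only [centreOp, ← hi0, ← hi1]
    funext k
    simp [Pi.single_apply]
    split_ifs <;> ring_nf <;> simp [CharTwo.two_eq_zero]
  rcases hP (QuotientGroup.mk G) with hc | ho
  · refine hT2ne ?_
    have hc' : z * z' = z' * z := ((injective_iff_map_eq_one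
      (QuotientGroup.mk' (Subgroup.center Sp))).2 hinj) (by
        simpa [hz', QuotientGroup.mk_mul, QuotientGroup.mk_inv] using hc.eq)
    have hsq' : z' * z' = 1 := by
      rw [hz', conj_mul, hsq, mul_one, mul_inv_cancel]
    calc T * T = z * z' * (z' * z) := by rw [← hc', hT]
      _ = 1 := by rw [mul_assoc, ← mul_assoc z', hsq', one_mul, hsq]
  · rw [show (QuotientGroup.mk z : PSp m F) * (QuotientGroup.mk G * QuotientGroup.mk z *
        (QuotientGroup.mk G)⁻¹) = QuotientGroup.mk T from rfl, hord] at ho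
    have hd := orderOf_dvd_iff_pow_eq_one.2 hT4
    have hd2 : ¬ orderOf T ∣ 2 := fun h => hT2ne (by rw [← pow_two]; exact orderOf_dvd_iff_pow_eq_one.1 h)
    obtain ⟨i, hi, hi'⟩ := (Nat.dvd_prime_pow Nat.prime_two).1 (show orderOf T ∣ 2 ^ 2 from hd)
    rw [hi'] at ho hd2
    rcases i with _ | i
    · exact hd2 (one_dvd 2)
    · exact Nat.not_odd_iff_even.2 (Nat.even_pow.2 ⟨even_two, by omega⟩) ho

theorem mem_rootX_of_centre (hm : 2 ≤ m) {P : Subgroup Sp} (hP : IsPGroup p P) (hU : upperSubgroup ≤ P)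
    (hchar : p = 2 → 3 ≤ m) {z : Sp} (hz : z ∈ P)
    (hc : ∀ A ∈ P, (QuotientGroup.mk z : PSp m F) * QuotientGroup.mk A = QuotientGroup.mk A * QuotientGroup.mk z)
    (hodd : p = 2 → OddProduct (QuotientGroup.mk z : PSp m F)) :
    (QuotientGroup.mk z : PSp m F) ∈ rootX (Pi.single (Sum.inr ⟨0, by omega⟩) 1 : Vec) := by
  obtain ⟨a, b, hb, hform⟩ := centre_form p hm hP hU hz fun A hA =>
    mk_inj p hP (by omega) (mul_mem hz (hU hA)) (mul_mem (hU hA) hz) (by
      rw [QuotientGroup.mk_mul, QuotientGroup.mk_mul, hc A (hU hA)])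
  have hb0 : b = 0 := by
    by_cases h2 : p = 2
    · subst h2
      by_contra hne
      exact centre_not_oddProduct (hchar rfl) hne hform (hodd rfl)
    · have h2' : (2 : F) ≠ 0 := by
        intro h0
        have h3 : ((2 : ℕ) : F) = 0 := by exact_mod_cast h0
        rw [CharP.cast_eq_zero_iff F p] at h3
        exact h2 ((Nat.prime_dvd_prime_iff_eq Fact.out Nat.prime_two).1 h3)
      exact (mul_eq_zero.1 hb).resolve_left h2'
  refine mem_rootX.2 ⟨-a, congrArg QuotientGroup.mk (sp_ext fun x => ?_)⟩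
  rw [hform, tv_mulVec, form_inr, centreOp, hb0]
  simp

theorem rootX_ne_bot {v : Vec} (hv : v ≠ 0) (hm : 1 ≤ m) :
    ∃ x ∈ rootX (m := m) v, x ≠ (1 : PSp m F) := by
  refine ⟨_, mem_rootX.2 ⟨1, rfl⟩, fun h => ?_⟩
  obtain ⟨w, hw⟩ := exists_partner hv
  obtain ⟨a, ha⟩ := (mem_center_iff _).1 ((QuotientGroup.eq_one_iff _).1 h)
  have h1 := congrArg (fun u => sf v u) (ha w)
  simp only [tv_mulVec, f_add_right, f_smul_right, sympForm_self, mul_zero, add_zero, hw, mul_one] at h1
  have h2 := ha w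
  rw [← h1, one_smul, tv_mulVec, add_eq_left, one_mul, sympForm_swap, hw] at h2
  exact hv (by simpa using h2)

include p in
theorem map_rootX (hm : 2 ≤ m) (hchar : p = 2 → 3 ≤ m) (β : MulAut (PSp m F)) {v : Vec}
    (hv : v ≠ 0) : ∃ w : Vec, w ≠ 0 ∧ (rootX v).map β.toMonoidHom = rootX w := by
  classical
  set e : Vec := Pi.single (Sum.inr ⟨0, by omega⟩) 1 with he
  suffices h : ∀ β : MulAut (PSp m F), ∃ w : Vec, w ≠ 0 ∧ (rootX e).map β.toMonoidHom = rootX w by
    obtain ⟨A, hA⟩ := exists_move (single_ne_zero (Sum.inr ⟨0, by omega⟩) : e ≠ 0) hv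
    obtain ⟨w, hw, h'⟩ := h (β * MulAut.conj (QuotientGroup.mk A : PSp m F))
    refine ⟨w, hw, ?_⟩
    rw [← h', ← hA, ← map_rootX_conj, Subgroup.map_map]
    rfl
  intro β
  obtain ⟨P, hU, hfix⟩ := exists_sylow (F := F) p (m := m) (by omega)
  set π : Sp →* PSp m F := QuotientGroup.mk' (Subgroup.center Sp)
  let Q : Sylow p (PSp m F) := P.mapSurjective (f := π) (QuotientGroup.mk'_surjective _)
  let Q' : Sylow p (PSp m F) := Q.mapSurjective (f := β.toMonoidHom) β.surjective
  obtain ⟨y, hy⟩ := MulAction.exists_smul_eq (PSp m F) Q Q'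
  have hQQ : ((P : Subgroup Sp).map π).map (MulAut.conj y).toMonoidHom =
      ((P : Subgroup Sp).map π).map β.toMonoidHom := by
    have := congrArg (fun S : Sylow p (PSp m F) => (S : Subgroup (PSp m F))) hy
    simp [Q, Q', Subgroup.pointwise_smul_def, Sylow.coe_subgroup_smul] at this
    exact this
  obtain ⟨s, rfl⟩ := QuotientGroup.mk_surjective y
  refine ⟨(s : M) *ᵥ e, fun h0 => ?_, ?_⟩
  · have := congrArg (((s⁻¹ : Sp) : M) *ᵥ ·) h0
    simp only [← mul_mulVec_sp, inv_mul_cancel, OneMemClass.coe_one, Matrix.one_mulVec,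
      Matrix.mulVec_zero] at this
    exact single_ne_zero _ this
  rw [← map_rootX_conj]
  set γ : MulAut (PSp m F) := (MulAut.conj (QuotientGroup.mk s : PSp m F))⁻¹ * β with hγ
  have hγQ : ((P : Subgroup Sp).map π).map γ.toMonoidHom = (P : Subgroup Sp).map π := by
    rw [show γ.toMonoidHom = (MulAut.conj (QuotientGroup.mk s : PSp m F))⁻¹.toMonoidHom.comp β.toMonoidHom
      from rfl, ← Subgroup.map_map, ← hQQ, Subgroup.map_map]
    exact (congrArg (fun φ => ((P : Subgroup Sp).map π).map φ) (MonoidHom.ext fun x =>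
      MulAut.inv_apply_self (PSp m F) (MulAut.conj (QuotientGroup.mk s : PSp m F)) x)).trans (Subgroup.map_id _)
  -- the transvection group is central in the Sylow subgroup
  have hXc : ∀ x ∈ rootX e, x ∈ (P : Subgroup Sp).map π ∧ ∀ z ∈ (P : Subgroup Sp).map π, x * z = z * x := by
    intro x hx
    obtain ⟨c, rfl⟩ := mem_rootX.1 hx
    refine ⟨⟨tv e c, hU (tv_mem_upper (fun i => by simp [he]) c), rfl⟩, ?_⟩
    rintro _ ⟨A, hA, rfl⟩
    have h1 : A * tv e c = tv e c * A := by
      have := tv_conj A e c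
      rw [he, hfix A hA] at this
      exact mul_inv_eq_iff_eq_mul.1 this
    change (QuotientGroup.mk (tv e c) : PSp m F) * QuotientGroup.mk A = _
    rw [← QuotientGroup.mk_mul, ← h1]
    rfl
  have hle : (rootX e).map γ.toMonoidHom ≤ rootX e := by
    rintro _ ⟨x, hx, rfl⟩
    obtain ⟨hxQ, hxc⟩ := hXc x hx
    have hmem : γ x ∈ (P : Subgroup Sp).map π := hγQ ▸ ⟨x, hxQ, rfl⟩
    obtain ⟨z, hz, hzx⟩ := hmem
    change γ x ∈ rootX e
    rw [← hzx]
    refine mem_rootX_of_centre p hm P.2 hU hchar hz (fun A hA => ?_) ?_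
    · have hAQ : (QuotientGroup.mk A : PSp m F) ∈ ((P : Subgroup Sp).map π).map γ.toMonoidHom :=
        hγQ.symm ▸ ⟨A, hA, rfl⟩
      obtain ⟨w, hw, hwA⟩ := hAQ
      change π z * π A = π A * π z
      rw [show π A = γ w from hwA.symm, hzx, ← map_mul, hxc w hw, map_mul]
    · intro h2
      subst h2
      obtain ⟨c, rfl⟩ := mem_rootX.1 hx
      change OddProduct (π z)
      rw [hzx]
      exact (oddProduct_tv (by rw [he]; exact single_ne_zero _) c).map γ
  have heq : (rootX e).map γ.toMonoidHom = rootX e :=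
    Subgroup.eq_of_le_of_card_ge hle (Subgroup.card_map_of_injective γ.injective).ge
  calc (rootX e).map β.toMonoidHom
      = ((rootX e).map γ.toMonoidHom).map (MulAut.conj (QuotientGroup.mk s : PSp m F)).toMonoidHom := by
        rw [Subgroup.map_map]
        congr 1
        exact MonoidHom.ext fun x => (MulAut.apply_inv_self (PSp m F) (MulAut.conj (QuotientGroup.mk s : PSp m F)) (β x)).symm
    _ = _ := by rw [heq]

end Finite

end Cfsg.Agent.AutPSp.SylowCentre
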