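import Cfsg.Agent.Lib.AutPSp.Conj
import Cfsg.Agent.Lib.AutPSL.FieldCent
import Cfsg.Agent.Lib.AutPSL.SplitClass

/-!
# The centraliser of a standard field automorphism in `Inndiag(PSp_{2m}(F))`
-/

set_option autoImplicit false

namespace Cfsg.Agent.AutPSp.FieldCent

open Matrix Cfsg.Agent.Forms.SympStd Cfsg.Agent.Classical.Symplectic Cfsg.Agent.AutPSp.Basic
  Cfsg.Agent.AutPSp.Main Cfsg.Agent.AutPSp.Conj Cfsg.Agent.AutPSL.SplitClass

universe u v

variable {F : Type u} [Field F] {m : ℕ} {F₀ : Type v} [Field F₀]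

local notation "I" => (Fin m ⊕ Fin m)
local notation "M" => Matrix (Fin m ⊕ Fin m) (Fin m ⊕ Fin m) F
local notation "Sp" => Matrix.symplecticGroup (Fin m) F
local notation "sf" => Cfsg.sympForm m F

theorem mem_GSp_iff (g : GL I F) (c : F) :
    (∀ u v, sf ((g : M) *ᵥ u) ((g : M) *ᵥ v) = c * sf u v) ↔
      (g : M)ᵀ * J (Fin m) F * (g : M) = c • J (Fin m) F := by
  have key : ∀ u v, sf ((g : M) *ᵥ u) ((g : M) *ᵥ v) = u ⬝ᵥ (((g : M)ᵀ * J (Fin m) F * (g : M)) *ᵥ v) := by
    intro u v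
    rw [Cfsg.sympForm, ← mulVec_mulVec, ← mulVec_mulVec, dotProduct_mulVec u (g : M)ᵀ, vecMul_transpose]
  constructor
  · intro h
    ext k l
    have h1 := h (Pi.single k 1) (Pi.single l 1)
    rw [key] at h1
    simpa [Cfsg.sympForm] using h1
  · intro h u v
    rw [key, h, Matrix.smul_mulVec, dotProduct_smul, smul_eq_mul]
    rfl

/-- The multiplier of a similitude. -/
noncomputable def mult0 (g : GSp m F) : Fˣ := g.2.choose

theorem mult0_spec (g : GSp m F) (u v : I → F) :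
    sf (((g : GL I F) : M) *ᵥ u) (((g : GL I F) : M) *ᵥ v) = (mult0 g : F) * sf u v :=
  g.2.choose_spec u v

theorem mult0_eq (hm : 1 ≤ m) (g : GSp m F) {c : F}
    (h : ∀ u v, sf (((g : GL I F) : M) *ᵥ u) (((g : GL I F) : M) *ᵥ v) = c * sf u v) :
    (mult0 g : F) = c := by
  have h1 := mult0_spec g (Pi.single (Sum.inr ⟨0, hm⟩) 1) (Pi.single (Sum.inl ⟨0, hm⟩) 1)
  rw [h, sympForm_inr_inl, if_pos rfl, mul_one, mul_one] at h1
  exact h1.symm

/-- The multiplier as a homomorphism. -/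
noncomputable def mult (hm : 1 ≤ m) : GSp m F →* Fˣ :=
  MonoidHom.mk' mult0 fun g h => Units.ext (mult0_eq hm (g * h) fun u v => by
    rw [gsp_mul_mulVec, gsp_mul_mulVec, mult0_spec, mult0_spec, Units.val_mul, mul_assoc])

theorem exists_mult (hm : 1 ≤ m) (a : Fˣ) : ∃ g : GSp m F, mult hm g = a := by
  let D : GL I F := Matrix.GeneralLinearGroup.mkOfDetNeZero
    (Matrix.diagonal (Sum.elim (fun _ => (a : F)) fun _ => 1))
    (by rw [Matrix.det_diagonal]; exact Finset.prod_ne_zero_iff.2 fun k _ => by rcases k with k | k <;> simp)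
  have h : ∀ u v, sf ((D : M) *ᵥ u) ((D : M) *ᵥ v) = (a : F) * sf u v := fun u v => by
    simp only [sympForm_eq, D, Matrix.GeneralLinearGroup.mkOfDetNeZero, Matrix.mulVec_diagonal,
      Finset.mul_sum]
    refine Finset.sum_congr rfl fun i _ => ?_
    simp [Matrix.GeneralLinearGroup.mk', Matrix.unitOfDetInvertible, Matrix.mulVec_diagonal]
    ring
  exact ⟨⟨D, a, h⟩, Units.ext (mult0_eq hm _ h)⟩

theorem gAut_mem_inn_iff (hm : 1 ≤ m) (g : GSp m F) :
    (gAut g : MulAut (PSp m F)) ∈ Inn (PSp m F) ↔ ∃ t : Fˣ, t ^ 2 = mult hm g := by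
  constructor
  · rintro ⟨y, hy⟩
    induction y using QuotientGroup.induction_on with | H s => ?_
    rw [conj_mk_eq_gAut] at hy
    obtain ⟨a, ha⟩ := (gAut_eq_one_iff' hm ((toGSp s)⁻¹ * g)).1 (by
      rw [map_mul, map_inv, hy, inv_mul_cancel])
    refine ⟨a, ?_⟩
    have h1 : mult hm (scG a : GSp m F) = a ^ 2 := Units.ext (mult0_eq hm _ fun u v => by
      rw [scG_mulVec, scG_mulVec, f_smul_left, f_smul_right, Units.val_pow_eq_pow_val]
      ring)
    have h2 : mult hm (toGSp s) = 1 := Units.ext (mult0_eq hm _ fun u v => by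
      rw [toGSp_coe, sympForm_mulVec, Units.val_one, one_mul])
    have h3 := congrArg (mult hm) ha
    rw [map_mul, map_inv, h2, inv_one, one_mul, h1] at h3
    exact h3.symm
  · rintro ⟨t, ht⟩
    have h1 : mult hm (scG t⁻¹ * g) = 1 := by
      have h : mult hm (scG t⁻¹ : GSp m F) = (t⁻¹) ^ 2 := Units.ext (mult0_eq hm _ fun u v => by
        rw [scG_mulVec, scG_mulVec, f_smul_left, f_smul_right, Units.val_pow_eq_pow_val]
        ring)
      rw [map_mul, h, ← ht, inv_pow, inv_mul_cancel]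
    set g' := scG t⁻¹ * g
    have hmem : ((g' : GL I F) : M) ∈ Matrix.symplecticGroup (Fin m) F := mem_sp_iff.2 fun u v => by
      rw [mult0_spec]
      change ((mult hm g' : Fˣ) : F) * _ = _
      rw [h1, Units.val_one, one_mul]
    refine ⟨QuotientGroup.mk ⟨_, hmem⟩, ?_⟩
    rw [conj_mk_eq_gAut, show toGSp ⟨_, hmem⟩ = g' from gsp_ext fun v => rfl, map_mul, gAut_scG hm, one_mul]

theorem inn_le_range : Inn (PSp m F) ≤ (gAut (m := m) (F := F)).range := by
  rintro _ ⟨y, rfl⟩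
  induction y using QuotientGroup.induction_on with | H s => ?_
  exact ⟨_, (conj_mk_eq_gAut s).symm⟩

variable (ι : F₀ →+* F)

/-- A similitude over the subfield as a similitude over the field. -/
def mapGSp : GSp m F₀ →* GSp m F :=
  ((Matrix.GeneralLinearGroup.map ι).comp (GSp m F₀).subtype).codRestrict (GSp m F) fun g => by
    obtain ⟨c, hc⟩ := g.2
    refine ⟨Units.map ι.toMonoidHom c, (mem_GSp_iff _ _).2 ?_⟩
    have h := congrArg (fun X : Matrix I I F₀ => X.map ι) ((mem_GSp_iff _ _).1 hc)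
    have hJ : (J (Fin m) F₀).map ι = J (Fin m) F := by
      ext (i | i) (j | j) <;> simp [J, Matrix.one_apply, apply_ite ι]
    simp only [Matrix.map_mul, Matrix.transpose_map, Matrix.map_smul' ι _ _ (map_mul ι), hJ] at h
    exact h

/-- The action of the similitudes over the subfield. -/
def subAct : GSp m F₀ →* MulAut (PSp m F) := gAut.comp (mapGSp ι)

theorem subAct_ker (hm : 1 ≤ m) :
    (subAct (m := m) ι).ker = (Geo.scalars I F₀).subgroupOf (GSp m F₀) := by
  ext g
  rw [MonoidHom.mem_ker, subAct, MonoidHom.comp_apply, gAut_eq_one_iff' hm, Subgroup.mem_subgroupOf]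
  constructor
  · rintro ⟨a, ha⟩
    have hentry : ∀ i j : I, ι (((g : GL I F₀) : Matrix I I F₀) i j) = if i = j then (a : F) else 0 := by
      intro i j
      refine (congrArg (fun h : GSp m F => ((h : GL I F) : M) i j) ha).trans ?_
      change Matrix.scalar I (a : F) i j = _
      rw [Matrix.scalar_apply, Matrix.diagonal_apply]
    set i0 : I := Sum.inl ⟨0, hm⟩
    set c := ((g : GL I F₀) : Matrix I I F₀) i0 i0
    have hc : ι c = (a : F) := by rw [hentry, if_pos rfl]
    refine ⟨Units.mk0 c (fun h0 => a.ne_zero (by rw [← hc, h0, map_zero])), Units.ext (Matrix.ext fun i j => ι.injective ?_)⟩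
    rw [hentry i j]
    change ι (Matrix.scalar I c i j) = _
    rw [Matrix.scalar_apply, Matrix.diagonal_apply, apply_ite ι, map_zero, hc]
  · rintro ⟨c, hc⟩
    refine ⟨Units.map ι.toMonoidHom c, Subtype.ext ?_⟩
    change Matrix.GeneralLinearGroup.map ι (g : GL I F₀) = _
    rw [← hc]
    refine Units.ext ?_
    change (Matrix.scalar I (c : F₀)).map ι = Matrix.scalar I (ι c)
    rw [Matrix.scalar_apply, Matrix.scalar_apply, Matrix.diagonal_map (map_zero ι)]

variable [Fintype F]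

theorem subAct_range (hm : 1 ≤ m) (σ : F ≃+* F) (hfix : ∀ y, σ (ι y) = ι y)
    (hsur : ∀ x, σ x = x → ∃ y, ι y = x) :
    (subAct (m := m) ι).range =
      (gAut (m := m) (F := F)).range ⊓ Subgroup.centralizer {(fAut σ : MulAut (PSp m F))} := by
  refine le_antisymm ?_ ?_
  · rintro _ ⟨g, rfl⟩
    refine ⟨⟨_, rfl⟩, Subgroup.mem_centralizer_singleton_iff.2 ?_⟩
    rw [subAct, MonoidHom.comp_apply, fAut_mul_gAut]
    congr 2
    exact Subtype.ext (Units.ext (Matrix.ext fun i j => (hfix _).symm))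
  · rintro _ ⟨⟨A, rfl⟩, hA⟩
    have h1 := Subgroup.mem_centralizer_singleton_iff.1 hA
    rw [fAut_mul_gAut] at h1
    have h2 : (gAut ((fieldGSp σ A)⁻¹ * A) : MulAut (PSp m F)) = 1 := by
      rw [map_mul, mul_right_cancel h1, ← map_mul, inv_mul_cancel, map_one]
    obtain ⟨c, hc⟩ := (gAut_eq_one_iff' hm _).1 h2
    have hA2 : A = scG c * fieldGSp σ A := by rw [scG_comm, ← hc, mul_inv_cancel_left]
    obtain ⟨b, hb⟩ : ∃ b : Fˣ, σ (b : F) * (c : F) = (b : F) := by
      have hiter : ∀ i, A = twistG σ (scG c) i * fieldGSp (σ ^ i) A := by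
        intro i
        induction i with
        | zero => simp [twistG, fieldGSp_one]
        | succ i ih =>
          rw [twistG, pow_succ', fieldGSp_mul, mul_assoc, ← map_mul, ← ih]
          exact hA2
      have htw : twistG σ (scG c : GSp m F) (orderOf σ) = 1 := by
        have h3 := hiter (orderOf σ)
        rw [pow_orderOf_eq_one, fieldGSp_one] at h3
        exact mul_right_cancel (h3.symm.trans (one_mul A).symm)
      obtain ⟨B, hB⟩ := speiserG hm σ _ htw
      have hB2 := eq_mul_inv_iff_mul_eq.1 hB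
      obtain ⟨i, j, hij⟩ : ∃ i j, ((B : GL I F) : M) i j ≠ 0 := by
        by_contra h
        push Not at h
        have : Nonempty I := ⟨Sum.inl ⟨0, hm⟩⟩
        exact (B : GL I F).ne_zero (Matrix.ext h)
      refine ⟨Units.mk0 _ hij, ?_⟩
      have h4 : (((scG c * fieldGSp σ B : GSp m F) : GL I F) : M) i j = ((B : GL I F) : M) i j :=
        congrArg (fun h : GSp m F => ((h : GL I F) : M) i j) hB2
      change (Matrix.scalar I (c : F) * ((B : GL I F) : M).map σ) i j = _ at h4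
      rw [Matrix.scalar_apply, Matrix.diagonal_mul, Matrix.map_apply] at h4
      rw [Units.val_mk0, mul_comm]
      exact h4
    have hfixA : fieldGSp σ (scG b⁻¹ * A) = scG b⁻¹ * A := by
      rw [map_mul, fieldGSp_scG]
      conv_rhs => rw [hA2]
      rw [← mul_assoc, ← map_mul]
      congr 2
      refine Units.ext ?_
      change σ ((b⁻¹ : Fˣ) : F) = ((b⁻¹ : Fˣ) : F) * (c : F)
      have := (map_ne_zero σ).2 b.ne_zero
      rw [Units.val_inv_eq_inv_val, map_inv₀]
      field_simp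
      linear_combination -hb
    set A' := scG b⁻¹ * A with hA'
    have hent : ∀ i j, ∃ y, ι y = ((A' : GL I F) : M) i j := fun i j =>
      hsur _ (congrArg (fun g : GSp m F => ((g : GL I F) : M) i j) hfixA)
    choose B hB using hent
    have hBM : (Matrix.of B).map ι = ((A' : GL I F) : M) := Matrix.ext hB
    have hdet : (Matrix.of B).det ≠ 0 := fun h0 => by
      have h5 := congrArg ι h0
      rw [RingHom.map_det, RingHom.mapMatrix_apply, hBM, map_zero] at h5
      exact (Matrix.GeneralLinearGroup.det (A' : GL I F)).ne_zero (by simpa using h5)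
    have hmult : σ (mult hm A' : F) = (mult hm A' : F) := by
      refine (mult0_eq hm A' fun u v => ?_).symm
      obtain ⟨u, rfl⟩ : ∃ u' : I → F, (fun i => σ (u' i)) = u := ⟨fun i => σ.symm (u i), by simp⟩
      obtain ⟨v, rfl⟩ : ∃ v' : I → F, (fun i => σ (v' i)) = v := ⟨fun i => σ.symm (v i), by simp⟩
      conv_lhs => rw [← hfixA]
      rw [fieldGSp_coe, map_mulVec_field, map_mulVec_field, sympForm_map, sympForm_map, mult0_spec, map_mul]
      rfl
    obtain ⟨d, hd⟩ := hsur _ hmult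
    have hd0 : d ≠ 0 := fun h => (mult hm A').ne_zero (by rw [← hd, h, map_zero])
    have hJ : (J (Fin m) F₀).map ι = J (Fin m) F := by
      ext (i | i) (j | j) <;> simp [J, Matrix.one_apply, apply_ite ι]
    have hmem : Matrix.GeneralLinearGroup.mkOfDetNeZero _ hdet ∈ GSp m F₀ := by
      refine ⟨Units.mk0 d hd0, (mem_GSp_iff _ _).2 ?_⟩
      have h6 := (mem_GSp_iff (A' : GL I F) _).1 (mult0_spec A')
      rw [← hBM, ← hJ] at h6
      change _ = ((mult hm A' : Fˣ) : F) • _ at h6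
      rw [← hd, ← Matrix.transpose_map, ← Matrix.map_mul, ← Matrix.map_mul,
        ← Matrix.map_smul' ι _ _ (map_mul ι)] at h6
      exact Matrix.map_injective ι.injective h6
    refine ⟨⟨_, hmem⟩, ?_⟩
    have : mapGSp ι ⟨_, hmem⟩ = A' := Subtype.ext (Units.ext hBM)
    rw [subAct, MonoidHom.comp_apply, this, hA', map_mul, gAut_scG hm, one_mul]

theorem splitClassCount_fAut [Fintype F₀] (hm : 1 ≤ m) (σ : F ≃+* F) (hfix : ∀ y, σ (ι y) = ι y)
    (hsur : ∀ x, σ x = x → ∃ y, ι y = x) :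
    splitClassCount (gAut (m := m) (F := F)).range (Inn (PSp m F)) (fAut σ) =
      Nat.gcd 2 ((Fintype.card F - 1) / (Fintype.card F₀ - 1)) := by
  classical
  have : (Inn (PSp m F)).Normal := inferInstance
  obtain ⟨hP, hdvd⟩ := AutPSL.FieldCent.range_eq_pow_range ι ι.injective
  rw [splitClassCount_eq _ _ inn_le_range, ← subAct_range ι hm σ hfix hsur, ← Subgroup.index_comap]
  have hmap : ∀ g : GSp m F₀, mult hm (mapGSp ι g) = Units.map (ι : F₀ →* F) (mult hm g) := fun g =>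
    Units.ext (mult0_eq hm _ ((mem_GSp_iff _ _).2 (by
      have h := congrArg (fun X : Matrix I I F₀ => X.map ι) ((mem_GSp_iff _ _).1 (mult0_spec g))
      have hJ : (J (Fin m) F₀).map ι = J (Fin m) F := by
        ext (i | i) (j | j) <;> simp [J, Matrix.one_apply, apply_ite ι]
      simp only [Matrix.map_mul, Matrix.transpose_map, Matrix.map_smul' ι _ _ (map_mul ι), hJ] at h
      exact h)))
  have hsurj : Function.Surjective (mult (F := F) (m := m) hm) := exists_mult hm
  have hcomap : Subgroup.comap (gAut (m := m) (F := F)) (Inn (PSp m F) ⊔ (subAct (m := m) ι).range) =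
      Subgroup.comap (mult hm) ((powMonoidHom 2 : Fˣ →* Fˣ).range ⊔ (Units.map (ι : F₀ →* F)).range) := by
    ext g
    rw [Subgroup.mem_comap, Subgroup.mem_comap, Subgroup.mem_sup_of_normal_left, Subgroup.mem_sup]
    constructor
    · rintro ⟨i, hi, _, ⟨A, rfl⟩, e⟩
      have h1 : (gAut (g * (mapGSp ι A)⁻¹) : MulAut (PSp m F)) ∈ Inn (PSp m F) := by
        rw [map_mul, map_inv, ← e]
        simpa [subAct] using hi
      obtain ⟨c, hc⟩ := (gAut_mem_inn_iff hm _).1 h1
      refine ⟨c ^ 2, ⟨c, rfl⟩, _, ⟨mult hm A, rfl⟩, ?_⟩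
      rw [← hmap, hc, ← map_mul, inv_mul_cancel_right]
    · rintro ⟨_, ⟨c, rfl⟩, _, ⟨a, rfl⟩, e⟩
      obtain ⟨A, rfl⟩ := exists_mult (F := F₀) hm a
      refine ⟨gAut (g * (mapGSp ι A)⁻¹), (gAut_mem_inn_iff hm _).2 ⟨c, ?_⟩, _, ⟨A, rfl⟩, ?_⟩
      · rw [map_mul, map_inv, hmap, ← e, powMonoidHom_apply, mul_inv_cancel_right]
      · rw [subAct, MonoidHom.comp_apply, ← map_mul, inv_mul_cancel_right]
  rw [hcomap, Subgroup.index_comap_of_surjective _ hsurj, hP, AutPSL.FieldCent.sup_range_pow,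
    IsCyclic.index_powMonoidHom_range, Nat.card_units, Nat.card_eq_fintype_card,
    Nat.gcd_eq_right (dvd_trans (Nat.gcd_dvd_right _ _) (Nat.div_dvd_of_dvd hdvd))]

/-- `gcd(2, 1 + q + … + q^(r-1)) = gcd(gcd(2, q^r - 1), r)`. -/
theorem gcd_quot {p f r : ℕ} (hp : 2 ≤ p) (hf : 1 ≤ f) (hr : r ∣ f) :
    Nat.gcd 2 ((p ^ f - 1) / (p ^ (f / r) - 1)) = Nat.gcd (Nat.gcd 2 (p ^ f - 1)) r := by
  obtain ⟨k, rfl⟩ := hr
  have hr0 : 0 < r := Nat.pos_of_ne_zero fun h => by simp [h] at hf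
  have hk : 0 < k := Nat.pos_of_ne_zero fun h => by simp [h] at hf
  rw [Nat.mul_div_cancel_left _ hr0, mul_comm r k, pow_mul, ← Nat.geomSum_eq
    (Nat.one_lt_pow hk.ne' hp) r]
  have hsum : (∑ i ∈ Finset.range r, (p ^ k) ^ i) % 2 = if Odd p then r % 2 else 1 := by
    rw [Finset.sum_nat_mod]
    split_ifs with h
    · rw [Finset.sum_congr rfl fun i _ => Nat.odd_iff.1 (h.pow.pow), Finset.sum_const,
        Finset.card_range, smul_eq_mul, mul_one]
    · rw [Finset.sum_eq_single 0]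
      · simp
      · intro i _ hi
        exact Nat.even_iff.1 ((Nat.even_pow.2 ⟨Nat.not_odd_iff_even.1 h, hk.ne'⟩).pow_of_ne_zero hi)
      · simp [hr0.ne']
  rw [Nat.gcd_rec 2, hsum]
  have hpar : ((p ^ k) ^ r - 1) % 2 = if Odd p then 0 else 1 := by
    have h1 : 1 ≤ (p ^ k) ^ r := Nat.one_le_pow _ _ (Nat.pow_pos (by omega))
    split_ifs with h
    · have := Nat.odd_iff.1 ((h.pow (n := k)).pow (n := r)); omega
    · have := Nat.even_iff.1 ((Nat.even_pow.2 ⟨Nat.not_odd_iff_even.1 h, hk.ne'⟩).pow_of_ne_zero hr0.ne'); omega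
  rw [Nat.gcd_rec 2 ((p ^ k) ^ r - 1), hpar]
  split_ifs with h
  · simp only [Nat.gcd_zero_left]
    rw [Nat.gcd_rec 2 r]
  · simp

theorem main [Fintype F₀] {p f : ℕ} [Fact p.Prime] (hF : Fintype.card F = p ^ f) (hf : 1 ≤ f) (hm : 2 ≤ m)
    (x : MulAut (PSp m F)) (hx : IsFieldAutClassPSp x) {r : ℕ} (hxr : orderOf x = r)
    (hF₀ : Fintype.card F₀ = p ^ (f / r)) :
    r ∣ f ∧ Nonempty (↥(inndiagPSp m F ⊓ Subgroup.centralizer {x}) ≃* PGSp m F₀) ∧
    splitClassCount (inndiagPSp m F) (Inn (PSp m F)) x = Nat.gcd (Nat.gcd 2 (p ^ f - 1)) r := by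
  obtain ⟨α, σ, -, hφ⟩ := hx
  have hφ' := (isStdFieldAutPSp_iff _ _).1 hφ
  rw [← (MulAut.conj α).orderOf_eq x, MulAut.conj_apply, hφ'] at hxr
  have hσ := field_order (by omega) hxr
  have hrf : r ∣ f := hσ ▸ AutPSL.FieldCent.dvd_degree hF σ
  obtain ⟨ι, hfix, hsur⟩ := AutPSL.FieldCent.exists_emb (F₀ := F₀) hF σ hσ hF₀
  have := range_normal (F := F) hm
  have : (Inn (PSp m F)).Normal := inferInstance
  rw [inndiagPSp_eq]
  refine ⟨hrf, ?_, ?_⟩
  · obtain ⟨e⟩ := nonempty_centralizer_conj (gAut (m := m) (F := F)).range α x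
    rw [hφ'] at e
    refine ⟨e.trans ((MulEquiv.subgroupCongr (subAct_range ι (by omega) σ hfix hsur).symm).trans ?_)⟩
    exact ((QuotientGroup.quotientKerEquivRange (subAct (m := m) ι)).symm.trans
      (QuotientGroup.quotientMulEquivOfEq (subAct_ker ι (by omega))))
  · rw [← splitClassCount_conj _ _ inn_le_range α x, hφ', splitClassCount_fAut ι (by omega) σ hfix hsur,
      hF, hF₀, gcd_quot (Fact.out : p.Prime).two_le hf hrf]

end Cfsg.Agent.AutPSp.FieldCent
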