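import Cfsg.Agent.Lib.AutPSp.Exceptional
import Cfsg.Agent.Lib.AutPSp.FieldCent
import Cfsg.Agent.Lib.AutPSL.FieldCent

/-!
# The order of `Aut(PSp_{2m}(F))`
-/

set_option autoImplicit false

namespace Cfsg.Agent.AutPSp.Count

open Matrix Cfsg.Agent.Forms.SympStd Cfsg.Agent.Classical.Symplectic Cfsg.Agent.AutPSp.Basic
  Cfsg.Agent.AutPSp.Main Cfsg.Agent.AutPSp.Conj Cfsg.Agent.AutPSp.FieldCent

universe u

variable {F : Type u} [Field F] [Finite F] {m : ℕ}

local notation "I" => (Fin m ⊕ Fin m)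
local notation "M" => Matrix (Fin m ⊕ Fin m) (Fin m ⊕ Fin m) F
local notation "Sp" => Matrix.symplecticGroup (Fin m) F

theorem conj_injective (hm : 1 ≤ m) : Function.Injective (MulAut.conj : PSp m F →* MulAut (PSp m F)) := by
  refine (injective_iff_map_eq_one _).2 fun y hy => ?_
  induction y using QuotientGroup.induction_on with | H s => ?_
  rw [conj_mk_eq_gAut] at hy
  obtain ⟨a, ha⟩ := (Main.gAut_eq_one_iff hm _).1 hy
  refine (QuotientGroup.eq_one_iff s).2 ((mem_center_iff s).2 ⟨a, fun v => ?_⟩)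
  exact ha v

theorem relIndex_inn (hm : 1 ≤ m) :
    (Inn (PSp m F)).relIndex (gAut (m := m) (F := F)).range = Nat.gcd 2 (Nat.card F - 1) := by
  have h1 : (Inn (PSp m F)).comap (gAut (m := m) (F := F)) =
      (powMonoidHom 2).range.comap (mult (F := F) hm) := by
    ext g
    rw [Subgroup.mem_comap, gAut_mem_inn_iff hm, Subgroup.mem_comap]
    rfl
  rw [← Subgroup.index_comap, h1, Subgroup.index_comap_of_surjective _ (exists_mult hm),
    IsCyclic.index_powMonoidHom_range, Nat.gcd_comm, Nat.card_units]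

theorem card_range (hm : 1 ≤ m) :
    Nat.card (gAut (m := m) (F := F)).range = Nat.gcd 2 (Nat.card F - 1) * Nat.card (PSp m F) := by
  rw [← relIndex_inn hm, Subgroup.relIndex,
    ← Subgroup.index_mul_card ((Inn (PSp m F)).subgroupOf (gAut (m := m) (F := F)).range)]
  congr 1
  rw [Nat.card_congr (Subgroup.subgroupOfEquivOfLe inn_le_range).toEquiv]
  exact (Nat.card_congr (MonoidHom.ofInjective (conj_injective (F := F) hm)).toEquiv).symm

theorem pair_injective (hm : 1 ≤ m) :
    Function.Injective fun x : (gAut (m := m) (F := F)).range × (F ≃+* F) =>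
      (x.1 : MulAut (PSp m F)) * fAut x.2 := by
  rintro ⟨⟨_, g, rfl⟩, σ⟩ ⟨⟨_, h, rfl⟩, τ⟩ he
  simp only at he
  have h1 : (gAut (h⁻¹ * g) * fAut (σ * τ⁻¹) : MulAut (PSp m F)) = 1 := by
    rw [map_mul, map_mul, map_inv, map_inv, mul_assoc, ← mul_assoc (gAut g), he, mul_inv_cancel_right,
      inv_mul_cancel]
  have h2 : σ = τ := mul_inv_eq_one.1 (mul_field_eq_one hm h1).1
  subst h2
  exact Prod.ext (Subtype.ext (mul_right_cancel he)) rfl

theorem card_mulAut (p f : ℕ) [Fact p.Prime] (hF : Nat.card F = p ^ f) (hm : 2 ≤ m) :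
    Nat.card (MulAut (PSp m F)) =
      (if m = 2 ∧ p = 2 then 2 else 1) * Nat.gcd 2 (p ^ f - 1) * f * Nat.card (PSp m F) := by
  classical
  have := Fintype.ofFinite F
  have hF' : Fintype.card F = p ^ f := by rw [← Nat.card_eq_fintype_card, hF]
  have : CharP F p := charP_of_card_eq_prime_pow hF'
  obtain ⟨ea⟩ := AutPSL.Out.exists_ringAut_equiv (p := p) (f := f) hF'
  have hA : Nat.card (F ≃+* F) = f := by
    rw [Nat.card_congr ea.toEquiv, Nat.card_congr Multiplicative.toAdd, Nat.card_zmod]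
  have hT : Nat.card ((gAut (m := m) (F := F)).range × (F ≃+* F)) =
      Nat.gcd 2 (p ^ f - 1) * Nat.card (PSp m F) * f := by
    rw [Nat.card_prod, card_range (by omega), hA, hF]
  by_cases hex : m = 2 ∧ p = 2
  · obtain ⟨rfl, rfl⟩ := hex
    rw [if_pos ⟨rfl, rfl⟩]
    let T : Bool × (gAut (m := 2) (F := F)).range × (F ≃+* F) → MulAut (PSp 2 F) := fun x =>
      (if x.1 then Exceptional.phi else 1) * ((x.2.1 : MulAut (PSp 2 F)) * fAut x.2.2)
    have hne : ∀ a b : (gAut (m := 2) (F := F)).range × (F ≃+* F),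
        Exceptional.phi * ((a.1 : MulAut (PSp 2 F)) * fAut a.2) ≠ (b.1 : MulAut (PSp 2 F)) * fAut b.2 := by
      rintro ⟨⟨_, g, rfl⟩, σ⟩ ⟨⟨_, h, rfl⟩, τ⟩ he
      refine Exceptional.phi_ne (h * fieldGSp (τ * σ⁻¹) g⁻¹) (τ * σ⁻¹) ?_
      rw [map_mul gAut, mul_assoc, ← fAut_mul_gAut, map_mul, map_inv, map_inv, eq_comm]
      rw [← mul_assoc, ← mul_assoc, ← he]
      group
    have hT' : Function.Bijective T := by
      refine ⟨?_, fun β => ?_⟩
      · rintro ⟨a, x⟩ ⟨b, y⟩ he
        simp only [T] at he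
        cases a <;> cases b <;> simp only [Bool.false_eq_true, if_false, if_true, one_mul, mul_right_inj] at he
        · exact Prod.ext rfl (pair_injective (by omega) he)
        · exact absurd he.symm (hne y x)
        · exact absurd he (hne x y)
        · exact Prod.ext rfl (pair_injective (by omega) he)
      · obtain ⟨g, σ, h | h⟩ := Exceptional.exists_decomp β
        · exact ⟨(false, ⟨_, g, rfl⟩, σ), by simp [T, h]⟩
        · exact ⟨(true, ⟨_, g, rfl⟩, σ), by simp [T, h]⟩
    rw [← Nat.card_eq_of_bijective T hT', Nat.card_prod, hT]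
    simp
    ring
  · rw [if_neg hex]
    have hsur : Function.Surjective fun x : (gAut (m := m) (F := F)).range × (F ≃+* F) =>
        (x.1 : MulAut (PSp m F)) * fAut x.2 := fun β => by
      obtain ⟨g, σ, h⟩ := exists_decomp p hm (fun hp => by
        by_contra h3
        exact hex ⟨by omega, hp⟩) β
      exact ⟨(⟨_, g, rfl⟩, σ), h.symm⟩
    rw [← Nat.card_eq_of_bijective _ ⟨pair_injective (by omega), hsur⟩, hT]
    ring

end Cfsg.Agent.AutPSp.Count
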