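import Cfsg.Agent.Lib.AutPSp.Main

/-!
# The exceptional automorphism of `PSp_4(2^f)`

The 2 × 2 minors of a symplectic matrix on the four totally singular coordinate pairs give an
automorphism exchanging the long and the short root groups.
-/

set_option autoImplicit false

namespace Cfsg.Agent.AutPSp.Exceptional

open Matrix Cfsg.Agent.Forms.SympStd Cfsg.Agent.Classical.Symplectic Cfsg.Agent.AutPSp.Basic
  Cfsg.Agent.AutPSp.Points Cfsg.Agent.AutPSp.SylowCentre Cfsg.Agent.AutPSp.Main

universe u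

variable {F : Type u} [Field F]

local notation "I" => (Fin 2 ⊕ Fin 2)
local notation "M" => Matrix (Fin 2 ⊕ Fin 2) (Fin 2 ⊕ Fin 2) F
local notation "Vec" => (Fin 2 ⊕ Fin 2 → F)
local notation "Sp" => Matrix.symplecticGroup (Fin 2) F
local notation "sf" => Cfsg.sympForm 2 F

/-- The totally singular coordinate pairs. -/
def pr : I → I × I
  | Sum.inr 0 => (Sum.inr 0, Sum.inr 1)
  | Sum.inr 1 => (Sum.inr 0, Sum.inl 1)
  | Sum.inl 0 => (Sum.inl 0, Sum.inl 1)
  | Sum.inl 1 => (Sum.inr 1, Sum.inl 0)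

/-- The minor on the rows `a b` and columns `c d` (signs do not matter in characteristic two). -/
def minor (A : M) (a b c d : I) : F := A a c * A b d + A a d * A b c

/-- The matrix of minors. -/
def phiMat (A : M) : M :=
  Matrix.of fun k l => minor A (pr k).1 (pr k).2 (pr l).1 (pr l).2

theorem phiMat_apply (A : M) (k l : I) :
    phiMat A k l = minor A (pr k).1 (pr k).2 (pr l).1 (pr l).2 := rfl

theorem form_cols (A : Sp) (a b : I) :
    sf (fun i => (A : M) i a) (fun i => (A : M) i b) = sf (Pi.single a 1) (Pi.single b 1) := by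
  have h := sympForm_mulVec A (Pi.single a 1) (Pi.single b 1)
  rwa [Matrix.mulVec_single_one, Matrix.mulVec_single_one] at h

theorem form_rows (A : Sp) (a b : I) :
    sf (fun i => (A : M) a i) (fun i => (A : M) b i) = sf (Pi.single a 1) (Pi.single b 1) := by
  have hA : (A : M)ᵀ ∈ Matrix.symplecticGroup (Fin 2) F := SymplecticGroup.transpose_mem A.2
  exact form_cols ⟨_, hA⟩ a b

theorem pr_perp (k : I) : sf (Pi.single (pr k).1 1) (Pi.single (pr k).2 1) = 0 := by
  obtain (i | i) := k <;> fin_cases i <;>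
    simp [pr, sympForm_inl_inl, sympForm_inl_inr, sympForm_inr_inl, sympForm_inr_inr]

variable [CharP F 2]

theorem minor_mul (A B : M) (a b c d : I)
    (hA : sf (fun i => A a i) (fun i => A b i) = 0) (hB : sf (fun i => B i c) (fun i => B i d) = 0) :
    minor (A * B) a b c d =
      ∑ p : I, minor A a b (pr p).1 (pr p).2 * minor B (pr p).1 (pr p).2 c d := by
  simp only [sympForm_eq, Fin.sum_univ_two] at hA hB
  simp only [minor, Matrix.mul_apply, Fintype.sum_sum_type, Fin.sum_univ_two, pr]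
  linear_combination (norm := (ring_nf; simp [CharTwo.two_eq_zero, CharTwo.ofNat_eq_mod]))
    (B (Sum.inr 0) c * B (Sum.inl 0) d + B (Sum.inr 0) d * B (Sum.inl 0) c) * hA +
      (A a (Sum.inr 1) * A b (Sum.inl 1) + A a (Sum.inl 1) * A b (Sum.inr 1)) * hB

theorem phiMat_mul (A B : Sp) :
    phiMat ((A : M) * (B : M)) = phiMat (A : M) * phiMat (B : M) := by
  ext k l
  rw [phiMat_apply, minor_mul _ _ _ _ _ _ ((form_rows A _ _).trans (pr_perp k))
    ((form_cols B _ _).trans (pr_perp l)), Matrix.mul_apply]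
  rfl

theorem phiMat_one : phiMat (1 : M) = 1 := by
  ext (i | i) (j | j) <;> fin_cases i <;> fin_cases j <;>
    simp [phiMat_apply, minor, pr, Matrix.one_apply]

theorem phiMat_tv (v : Vec) (c : F) :
    phiMat ((tv v c : Sp) : M) ∈ Matrix.symplecticGroup (Fin 2) F := by
  have hA : ∀ a b : I, ((tv v c : Sp) : M) a b =
      (1 : M) a b + c * sf (Pi.single b 1) v * v a := fun a b => by
    have h := congrFun (tv_mulVec v (Pi.single b 1) c) a
    rw [Matrix.mulVec_single_one] at h
    simpa [Matrix.one_apply, Pi.single_apply] using h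
  rw [SymplecticGroup.mem_iff']
  ext (i | i) (j | j) <;> fin_cases i <;> fin_cases j <;>
    simp [Matrix.mul_apply, Fintype.sum_sum_type, Fin.sum_univ_two, J, Matrix.one_apply,
      phiMat_apply, minor, pr, hA, sympForm_eq, Pi.single_apply, CharTwo.neg_eq] <;>
    linear_combination (norm := (ring_nf; simp [CharTwo.two_eq_zero, CharTwo.ofNat_eq_mod]))
      (0 : F) * CharTwo.two_eq_zero (R := F)

theorem phiMat_mem (A : Sp) : phiMat (A : M) ∈ Matrix.symplecticGroup (Fin 2) F := by
  have h : A ∈ Subgroup.closure (tvSet (F := F) (m := 2) ∅) := by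
    rw [closure_tvSet_eq_top]; exact Subgroup.mem_top _
  induction h using Subgroup.closure_induction with
  | mem x hx =>
    obtain ⟨w, c, -, hx⟩ := hx
    rw [hx]
    exact phiMat_tv w c
  | one =>
    rw [OneMemClass.coe_one, phiMat_one]
    exact one_mem _
  | mul x y _ _ hx hy =>
    rw [Submonoid.coe_mul, phiMat_mul]
    exact mul_mem hx hy
  | inv x _ hx =>
    have h1 : (⟨_, hx⟩ : Sp).1 * phiMat ((x⁻¹ : Sp) : M) = 1 := by
      rw [← phiMat_mul, ← Submonoid.coe_mul, mul_inv_cancel, OneMemClass.coe_one, phiMat_one]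
    have h2 : phiMat ((x⁻¹ : Sp) : M) = (((⟨_, hx⟩ : Sp))⁻¹ : Sp).1 := by
      refine (left_inv_eq_right_inv ?_ h1).symm
      exact congrArg Subtype.val (inv_mul_cancel (⟨_, hx⟩ : Sp))
    rw [h2]
    exact SetLike.coe_mem _

/-- The minors as an endomorphism of `Sp_4`. -/
def phiHom : Sp →* Sp :=
  MonoidHom.mk' (fun A => ⟨_, phiMat_mem A⟩) fun A B => Subtype.ext (phiMat_mul A B)

theorem phiHom_coe (A : Sp) : ((phiHom A : Sp) : M) = phiMat (A : M) := rfl

/-- `x ↦ x + a x_{F0} E0 + b (x_{F0} E1 + x_{F1} E0)` as an element of `Sp_4`. -/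
theorem phiMat_single (a c : F) (k : I) :
    phiMat ((tv (a • Pi.single k 1) c : Sp) : M) =
      phiMat (1 + (c * a * a) • Matrix.single k k.swap 1) := by
  congr 1
  ext x y
  have h := congrFun (tv_mulVec (a • Pi.single k 1) (Pi.single y 1) c) x
  rw [Matrix.mulVec_single_one] at h
  rw [Matrix.col_apply] at h
  rw [h]
  rcases k with k | k <;> rcases x with x | x <;> rcases y with y | y <;>
    simp [f_smul_right, sympForm_inl_inl, sympForm_inl_inr, sympForm_inr_inl, sympForm_inr_inr,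
      Matrix.one_apply, Matrix.single_apply, Pi.single_apply] <;>
    split_ifs <;>
    first
    | (simp_all [CharTwo.neg_eq]; done)
    | (simp_all [CharTwo.neg_eq] <;> ring; done)
    | grind

theorem phi_tv_mulVec (c : F) (x : Vec) :
    ((phiHom (tv (Pi.single (Sum.inr 0) 1 : Vec) c) : Sp) : M) *ᵥ x = centreOp le_rfl 0 c x := by
  rw [phiHom_coe, ← one_smul F (Pi.single (Sum.inr (0 : Fin 2)) (1 : F) : Vec), phiMat_single]
  funext k
  obtain (i | i) := k <;> fin_cases i <;>
    simp [Matrix.mulVec, dotProduct, Fintype.sum_sum_type, Fin.sum_univ_two, phiMat_apply, minor, pr,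
      Matrix.one_apply, Matrix.single_apply, centreOp, Pi.single_apply] <;> ring_nf <;>
    simp [CharTwo.two_eq_zero, CharTwo.ofNat_eq_mod]

theorem phiHom_eq_one_tv {u v : Vec} (h : LinearIndependent F ![v, u]) :
    phiHom (tv u 1 * tv v 1) ≠ (1 : Sp) := by
  intro h1
  classical
  set e1 : Vec := Pi.single (Sum.inr 0) 1
  suffices hs : ∀ (k : I) (a : F), a ≠ 0 → k ≠ Sum.inr 0 → k ≠ Sum.inl 1 →
      (∃ A : Sp, (A : M) *ᵥ v = e1 ∧ (A : M) *ᵥ u = a • Pi.single k 1) → False by
    have hli : ∀ (k : I) (a : F), a ≠ 0 → k ≠ Sum.inr 0 →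
        LinearIndependent F ![e1, (a • Pi.single k 1 : Vec)] := by
      intro k a ha hk
      rw [LinearIndependent.pair_iff]
      intro s t hst
      have h0 := congrFun hst k
      have h2 := congrFun hst (Sum.inr 0)
      simp [e1, hk, Ne.symm hk, ha] at h0 h2
      exact ⟨h2, h0⟩
    by_cases hf : sf v u = 0
    · exact hs (Sum.inr 1) 1 one_ne_zero (by simp) (by simp) (by
        obtain ⟨A, hA1, hA2⟩ := exists_map_pair h (hli (Sum.inr 1) 1 one_ne_zero (by simp))
          (by rw [one_smul, hf, sympForm_inr_inr])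
        exact ⟨A, hA1, hA2⟩)
    · exact hs (Sum.inl 0) (sf v u) hf (by simp) (by simp) (by
        obtain ⟨A, hA1, hA2⟩ := exists_map_pair h (hli (Sum.inl 0) (sf v u) hf (by simp))
          (by rw [f_smul_right, sympForm_inr_inl, if_pos rfl, mul_one])
        exact ⟨A, hA1, hA2⟩)
  rintro k a ha hk0 hk1 ⟨A, hA1, hA2⟩
  have h2 : phiHom (tv (a • Pi.single k 1 : Vec) 1 * tv e1 1) = 1 := by
    rw [← hA1, ← hA2, ← tv_conj, ← tv_conj, conj_mul, map_mul, map_mul, h1, mul_one, ← map_mul,
      mul_inv_cancel, map_one]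
  have h3 : phiMat ((tv (a • Pi.single k 1 : Vec) 1 : Sp) : M) * phiMat ((tv e1 1 : Sp) : M) = 1 := by
    rw [map_mul] at h2
    exact congrArg Subtype.val h2
  rw [show e1 = (1 : F) • Pi.single (Sum.inr 0) 1 from (one_smul F _).symm, phiMat_single,
    phiMat_single] at h3
  have h4 := congrFun (congrFun h3 (Sum.inr 0)) (Sum.inl 1)
  obtain (i | i) := k <;> fin_cases i <;>
    simp [Matrix.mul_apply, Fintype.sum_sum_type, Fin.sum_univ_two, phiMat_apply, minor, pr,
      Matrix.one_apply, Matrix.single_apply] at h4 hk0 hk1 ⊢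

variable [Finite F]

theorem phiHom_injective : Function.Injective (phiHom (F := F)) := by
  refine (injective_iff_map_eq_one _).2 fun A hA => ?_
  have hpar : ∀ v : Vec, v ≠ 0 → Par ((1 : Sp).1 *ᵥ v) ((A : M) *ᵥ v) := by
    intro v hv
    rw [OneMemClass.coe_one, Matrix.one_mulVec]
    by_contra hne
    have hAv : (A : M) *ᵥ v ≠ 0 := fun h0 => hv (by
      have := congrArg (((A⁻¹ : Sp) : M) *ᵥ ·) h0
      simp only [← mul_mulVec_sp, inv_mul_cancel, OneMemClass.coe_one, Matrix.one_mulVec,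
        Matrix.mulVec_zero] at this
      exact this)
    have hli : LinearIndependent F ![v, (A : M) *ᵥ v] := by
      rw [LinearIndependent.pair_iff' hv]
      exact fun a h => hne ⟨a, fun h0 => hAv (by rw [← h, h0, zero_smul]), h.symm⟩
    refine phiHom_eq_one_tv hli ?_
    rw [map_mul, ← tv_conj, map_mul, map_mul, hA, map_inv, hA, inv_one, one_mul, mul_one, ← map_mul,
      tv_mul, CharTwo.add_self_eq_zero, tv_zero, map_one]
  have h1 := mk_eq_mk_of_fixes 1 A hpar
  rw [mk_eq_mk_iff] at h1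
  obtain ⟨a, ha⟩ := h1
  have h2 := sympForm_mulVec A (Pi.single (Sum.inr 0) 1) (Pi.single (Sum.inl 0) 1)
  rw [ha, ha, OneMemClass.coe_one, Matrix.one_mulVec, Matrix.one_mulVec, f_smul_left, f_smul_right,
    sympForm_inr_inl, if_pos rfl, mul_one] at h2
  have ha1 : a = 1 := by
    refine CharTwo.add_eq_zero.1 (mul_self_eq_zero.1 ?_)
    linear_combination h2 + CharTwo.add_self_eq_zero (1 : F) + CharTwo.add_self_eq_zero a
  exact sp_ext fun v => by rw [ha, ha1, one_smul]

/-- The exceptional automorphism of `PSp_4`. -/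
noncomputable def phi : MulAut (PSp 2 F) :=
  descend (MulEquiv.ofBijective phiHom (Finite.injective_iff_bijective.1 phiHom_injective))

theorem phi_mk (A : Sp) : (phi (F := F)) (QuotientGroup.mk A : PSp 2 F) = QuotientGroup.mk (phiHom A) := rfl

/-- The short root group `φ(X_{E0})`. -/
noncomputable def shortX : Subgroup (PSp 2 F) :=
  (rootX (Pi.single (Sum.inr 0) 1 : Vec)).map (phi (F := F)).toMonoidHom

theorem centre_mul (z z' : Sp) {a b a' b' : F} (hz : ∀ x, (z : M) *ᵥ x = centreOp le_rfl a b x)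
    (hz' : ∀ x, (z' : M) *ᵥ x = centreOp le_rfl a' b' x) (x : Vec) :
    ((z * z' : Sp) : M) *ᵥ x = centreOp le_rfl (a + a') (b + b') x := by
  rw [mul_mulVec_sp, hz', hz]
  simp only [centreOp]
  funext k
  obtain (i | i) := k <;> fin_cases i <;> simp <;> ring

theorem mixed_not_oddProduct {z : Sp} {a b : F} (ha : a ≠ 0) (hb : b ≠ 0)
    (hz : ∀ x, (z : M) *ᵥ x = centreOp le_rfl a b x) :
    ¬ OddProduct (QuotientGroup.mk z : PSp 2 F) := by
  classical
  intro hP
  let ρ : I → I := fun k => match k with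
    | Sum.inr 0 => Sum.inr 1
    | Sum.inr 1 => Sum.inl 0
    | Sum.inl 0 => Sum.inl 1
    | Sum.inl 1 => Sum.inr 0
  let ρ' : I → I := fun k => match k with
    | Sum.inr 1 => Sum.inr 0
    | Sum.inl 0 => Sum.inr 1
    | Sum.inl 1 => Sum.inl 0
    | Sum.inr 0 => Sum.inl 1
  let e : I ≃ I := ⟨ρ, ρ',
    fun k => by obtain (i | i) := k <;> fin_cases i <;> rfl,
    fun k => by obtain (i | i) := k <;> fin_cases i <;> rfl⟩
  let G : Sp := ofEquiv (LinearEquiv.funCongrLeft F F e) fun u v => by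
    simp [LinearMap.funLeft_apply, sympForm_eq, Fin.sum_univ_two, e, ρ, CharTwo.sub_eq_add]
    ring
  have hG : ∀ x : Vec, (G : M) *ᵥ x = fun k => x (ρ k) := fun x => by
    rw [ofEquiv_mulVec]; rfl
  have hG' : ∀ x : Vec, ((G⁻¹ : Sp) : M) *ᵥ x = fun k => x (ρ' k) := fun x => by
    refine inv_mulVec_of_eq ?_
    rw [hG]
    funext k
    obtain (i | i) := k <;> fin_cases i <;> rfl
  set z' := G * z * G⁻¹ with hz'
  set T := z * z' with hT
  have hz'x : ∀ x : Vec, (z' : M) *ᵥ x = fun k => (centreOp le_rfl a b fun j => x (ρ' j)) (ρ k) :=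
    fun x => by rw [hz', mul_mulVec_sp, mul_mulVec_sp, hG', hz, hG]
  have hT4 : T ^ 4 = 1 := sp_ext fun x => by
    rw [show T ^ 4 = T * T * (T * T) by rw [show (4 : ℕ) = 2 + 2 from rfl, pow_add, pow_two],
      OneMemClass.coe_one, Matrix.one_mulVec]
    simp only [hT, mul_mulVec_sp, hz, hz'x]
    funext k
    obtain (i | i) := k <;> fin_cases i <;>
      simp [centreOp, ρ, ρ', Pi.single_apply] <;> ring_nf <;> simp [CharTwo.two_eq_zero, CharTwo.ofNat_eq_mod] <;>
      (try ring_nf) <;> simp [CharTwo.two_eq_zero, CharTwo.ofNat_eq_mod]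
  have hT2 : T * T ≠ 1 := fun h => by
    have hsq : z * z = 1 := sp_ext fun x => by
      rw [centre_mul z z hz hz, CharTwo.add_self_eq_zero, CharTwo.add_self_eq_zero, OneMemClass.coe_one,
        Matrix.one_mulVec]
      simp [centreOp]
    have hsq' : z' * z' = 1 := by rw [hz', conj_mul, hsq, mul_one, mul_inv_cancel]
    have hcomm : z * z' = z' * z := by
      have h' := inv_eq_of_mul_eq_one_right h
      rw [hT, _root_.mul_inv_rev, inv_eq_of_mul_eq_one_right hsq,
        inv_eq_of_mul_eq_one_right hsq'] at h'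
      exact h'.symm
    have h1 := congrFun (congrArg (fun A : Sp => (A : M) *ᵥ (Pi.single (Sum.inr 1) 1 : Vec)) hcomm) (Sum.inr 0)
    simp only [mul_mulVec_sp, hz, hz'x] at h1
    simp [centreOp, ρ, ρ', Pi.single_apply, ha, hb] at h1
  have hinj : Function.Injective (QuotientGroup.mk' (Subgroup.center Sp)) := by
    refine (injective_iff_map_eq_one _).2 fun A hA => ?_
    obtain ⟨t, ht⟩ := (mem_center_iff A).1 ((QuotientGroup.eq_one_iff A).1 hA)
    have h1 := sympForm_mulVec A (Pi.single (Sum.inr 0) 1) (Pi.single (Sum.inl 0) 1)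
    rw [ht, ht, f_smul_left, f_smul_right, sympForm_inr_inl, if_pos rfl, mul_one] at h1
    have ht1 : t = 1 := by
      refine CharTwo.add_eq_zero.1 (mul_self_eq_zero.1 ?_)
      linear_combination h1 + CharTwo.add_self_eq_zero (1 : F) + CharTwo.add_self_eq_zero t
    exact sp_ext fun v => by rw [ht, ht1, one_smul, OneMemClass.coe_one, Matrix.one_mulVec]
  have hsq : z * z = 1 := sp_ext fun x => by
    rw [centre_mul z z hz hz, CharTwo.add_self_eq_zero, CharTwo.add_self_eq_zero, OneMemClass.coe_one,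
      Matrix.one_mulVec]
    simp [centreOp]
  rcases hP (QuotientGroup.mk G) with hc | ho
  · refine hT2 ?_
    have hc' : z * z' = z' * z := hinj (by simpa [hz'] using hc.eq)
    have hsq' : z' * z' = 1 := by rw [hz', conj_mul, hsq, mul_one, mul_inv_cancel]
    calc T * T = z * z' * (z' * z) := by rw [← hc', hT]
      _ = 1 := by rw [mul_assoc, ← mul_assoc z', hsq', one_mul, hsq]
  · rw [show (QuotientGroup.mk z : PSp 2 F) * (QuotientGroup.mk G * QuotientGroup.mk z *
        (QuotientGroup.mk G)⁻¹) = QuotientGroup.mk' (Subgroup.center Sp) T from rfl,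
      orderOf_injective _ hinj] at ho
    obtain ⟨i, hi, hi'⟩ := (Nat.dvd_prime_pow Nat.prime_two).1
      (show orderOf T ∣ 2 ^ 2 from orderOf_dvd_iff_pow_eq_one.2 hT4)
    have hd2 : ¬ orderOf T ∣ 2 := fun h => hT2 (by rw [← pow_two]; exact orderOf_dvd_iff_pow_eq_one.1 h)
    rw [hi'] at ho hd2
    rcases i with _ | i
    · exact hd2 (one_dvd 2)
    · exact Nat.not_odd_iff_even.2 (Nat.even_pow.2 ⟨even_two, by omega⟩) ho

theorem shortX_ne_rootX (w : Vec) : shortX (F := F) ≠ rootX w := by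
  intro h
  have h1 : phi (F := F) (QuotientGroup.mk (tv (Pi.single (Sum.inr 0) 1 : Vec) 1)) ∈ rootX w :=
    h ▸ ⟨_, mem_rootX.2 ⟨1, rfl⟩, rfl⟩
  obtain ⟨c, hc⟩ := mem_rootX.1 h1
  rw [phi_mk] at hc
  obtain ⟨a, ha⟩ := (mk_eq_mk_iff _ _).1 hc
  have hh : ∀ k : I, centreOp le_rfl (0 : F) 1 (Pi.single k 1) = a • (Pi.single k 1 + (c * sf (Pi.single k 1) w) • w) := fun k => by
    rw [← phi_tv_mulVec, ha, tv_mulVec]
  have hk : ∀ k l : I, centreOp le_rfl (0 : F) 1 (Pi.single k 1) l =
      a * ((Pi.single k 1 : Vec) l + c * sf (Pi.single k 1) w * w l) := fun k l => congrFun (hh k) l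
  have e11 := hk (Sum.inl 1) (Sum.inr 0)
  have e00 := hk (Sum.inl 0) (Sum.inr 1)
  have e01 := hk (Sum.inl 0) (Sum.inr 0)
  simp [centreOp, Pi.single_apply, sympForm_eq, Fin.sum_univ_two, CharTwo.neg_eq, CharTwo.sub_eq_add] at e11 e00 e01
  grind

theorem exists_root_or (β : MulAut (PSp 2 F)) :
    ∃ γ : MulAut (PSp 2 F), (β = γ ∨ β = phi * γ) ∧
      ∀ v : Vec, v ≠ 0 → ∃ w : Vec, w ≠ 0 ∧ (rootX v).map γ.toMonoidHom = rootX w := by
  classical
  have : Fact (Nat.Prime 2) := ⟨Nat.prime_two⟩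
  set e : Vec := Pi.single (Sum.inr 0) 1 with he
  have he0 : e ≠ 0 := Points.single_ne_zero _
  have hall : ∀ γ : MulAut (PSp 2 F),
      (∃ s : Sp, (rootX e).map γ.toMonoidHom = rootX ((s : M) *ᵥ e) ∨
        (rootX e).map γ.toMonoidHom = shortX.map (MulAut.conj (QuotientGroup.mk s : PSp 2 F)).toMonoidHom) := by
    intro γ
    obtain ⟨P, hU, hfix⟩ := exists_sylow (F := F) 2 (m := 2) (by omega)
    set π : Sp →* PSp 2 F := QuotientGroup.mk' (Subgroup.center Sp)
    let Q : Sylow 2 (PSp 2 F) := P.mapSurjective (f := π) (QuotientGroup.mk'_surjective _)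
    let Q' : Sylow 2 (PSp 2 F) := Q.mapSurjective (f := γ.toMonoidHom) γ.surjective
    obtain ⟨y, hy⟩ := MulAction.exists_smul_eq (PSp 2 F) Q Q'
    have hQQ : ((P : Subgroup Sp).map π).map (MulAut.conj y).toMonoidHom =
        ((P : Subgroup Sp).map π).map γ.toMonoidHom := by
      have := congrArg (fun S : Sylow 2 (PSp 2 F) => (S : Subgroup (PSp 2 F))) hy
      simp [Q, Q', Subgroup.pointwise_smul_def, Sylow.coe_subgroup_smul] at this
      exact this
    obtain ⟨s, rfl⟩ := QuotientGroup.mk_surjective y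
    refine ⟨s, ?_⟩
    set cs : MulAut (PSp 2 F) := MulAut.conj (QuotientGroup.mk s : PSp 2 F)
    set δ : MulAut (PSp 2 F) := cs⁻¹ * γ
    have hδQ : ((P : Subgroup Sp).map π).map δ.toMonoidHom = (P : Subgroup Sp).map π := by
      rw [show δ.toMonoidHom = cs⁻¹.toMonoidHom.comp γ.toMonoidHom from rfl, ← Subgroup.map_map, ← hQQ,
        Subgroup.map_map]
      exact (congrArg (fun φ => ((P : Subgroup Sp).map π).map φ) (MonoidHom.ext fun x =>
        MulAut.inv_apply_self (PSp 2 F) cs x)).trans (Subgroup.map_id _)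
    have hle : ∀ x ∈ (rootX e).map δ.toMonoidHom, x ∈ rootX e ∨ x ∈ shortX (F := F) := by
      rintro _ ⟨x, hx, rfl⟩
      obtain ⟨c, rfl⟩ := mem_rootX.1 hx
      have hxQ : π (tv e c) ∈ (P : Subgroup Sp).map π :=
        ⟨tv e c, hU (tv_mem_upper (fun i => by simp [he]) c), rfl⟩
      have hmem : δ (π (tv e c)) ∈ (P : Subgroup Sp).map π := hδQ ▸ ⟨_, hxQ, rfl⟩
      obtain ⟨z, hz, hzx⟩ := hmem
      change δ (π (tv e c)) ∈ rootX e ∨ δ (π (tv e c)) ∈ shortX
      rw [← hzx]
      have hcz : ∀ A ∈ (upperSubgroup : Subgroup Sp), z * A = A * z := by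
        intro A hA
        refine mk_inj 2 P.2 (by omega) (mul_mem hz (hU hA)) (mul_mem (hU hA) hz) ?_
        have hAQ : π A ∈ ((P : Subgroup Sp).map π).map δ.toMonoidHom := hδQ.symm ▸ ⟨A, hU hA, rfl⟩
        obtain ⟨_, ⟨B, hB, rfl⟩, hwA⟩ := hAQ
        have hcomm : tv e c * B = B * tv e c := by
          have := tv_conj B e c
          rw [he] at this
          erw [hfix B hB] at this
          exact (mul_inv_eq_iff_eq_mul.1 this).symm
        change π (z * A) = π (A * z)
        rw [map_mul, map_mul, hzx, ← hwA]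
        change δ (π (tv e c)) * δ (π B) = δ (π B) * δ (π (tv e c))
        rw [← map_mul, ← map_mul, ← map_mul, hcomm, map_mul]
      obtain ⟨a, b, -, hform⟩ := centre_form 2 le_rfl P.2 hU hz hcz
      have hodd : OddProduct (π z) := by
        rw [hzx]; exact (oddProduct_tv he0 c).map δ
      by_cases hb : b = 0
      · left
        refine mem_rootX.2 ⟨-a, congrArg QuotientGroup.mk (sp_ext fun x => ?_)⟩
        rw [hform, tv_mulVec, he, form_inr, centreOp, hb]
        simp
      · have ha : a = 0 := by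
          by_contra ha
          exact mixed_not_oddProduct ha hb hform hodd
        right
        refine ⟨_, mem_rootX.2 ⟨b, rfl⟩, ?_⟩
        change phi (F := F) (QuotientGroup.mk (tv e b)) = QuotientGroup.mk z
        rw [phi_mk]
        exact congrArg QuotientGroup.mk (sp_ext fun x => by rw [he, phi_tv_mulVec, hform, ha])
    have hcard : Nat.card (shortX (F := F)) = Nat.card (rootX e) :=
      Subgroup.card_map_of_injective (phi (F := F)).injective
    have hcard' : Nat.card ((rootX e).map δ.toMonoidHom) = Nat.card (rootX e) :=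
      Subgroup.card_map_of_injective δ.injective
    have hor : (rootX e).map δ.toMonoidHom ≤ rootX e ∨ (rootX e).map δ.toMonoidHom ≤ shortX := by
      by_contra hno
      rw [not_or, SetLike.not_le_iff_exists, SetLike.not_le_iff_exists] at hno
      obtain ⟨⟨x, hx, hx'⟩, y, hy, hy'⟩ := hno
      have hxs := (hle x hx).resolve_left hx'
      have hyr := (hle y hy).resolve_right hy'
      rcases hle (x * y) (mul_mem hx hy) with h | h
      · exact hx' (by simpa using mul_mem h (inv_mem hyr))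
      · exact hy' (by simpa using mul_mem (inv_mem hxs) h)
    have hback : (rootX e).map γ.toMonoidHom = ((rootX e).map δ.toMonoidHom).map cs.toMonoidHom := by
      rw [Subgroup.map_map]
      congr 1
      exact MonoidHom.ext fun x => (MulAut.apply_inv_self (PSp 2 F) cs (γ x)).symm
    rcases hor with h | h
    · left
      rw [hback, Subgroup.eq_of_le_of_card_ge h hcard'.ge, map_rootX_conj]
    · right
      rw [hback, Subgroup.eq_of_le_of_card_ge h (hcard'.trans hcard.symm).ge]
  have hgood : ∀ γ : MulAut (PSp 2 F), (∃ w : Vec, w ≠ 0 ∧ (rootX e).map γ.toMonoidHom = rootX w) →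
      ∀ v : Vec, v ≠ 0 → ∃ w : Vec, w ≠ 0 ∧ (rootX v).map γ.toMonoidHom = rootX w := by
    rintro γ ⟨w, hw, hγ⟩ v hv
    obtain ⟨A, hA⟩ := exists_move he0 hv
    obtain ⟨B, hB⟩ := QuotientGroup.mk_surjective (γ (QuotientGroup.mk A : PSp 2 F))
    refine ⟨(B : M) *ᵥ w, fun h0 => hw ?_, ?_⟩
    · have := congrArg (((B⁻¹ : Sp) : M) *ᵥ ·) h0
      simp only [← mul_mulVec_sp, inv_mul_cancel, OneMemClass.coe_one, Matrix.one_mulVec,
        Matrix.mulVec_zero] at this
      exact this
    rw [← hA, ← map_rootX_conj, ← map_rootX_conj, ← hγ, Subgroup.map_map, Subgroup.map_map]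
    congr 1
    refine MonoidHom.ext fun y => ?_
    change γ (QuotientGroup.mk A * y * (QuotientGroup.mk A)⁻¹) =
      (QuotientGroup.mk B : PSp 2 F) * γ y * (QuotientGroup.mk B)⁻¹
    rw [map_mul, map_mul, map_inv, hB]
  obtain ⟨s, hs | hs⟩ := hall β
  · refine ⟨β, Or.inl rfl, hgood β ⟨_, fun h0 => he0 ?_, hs⟩⟩
    have := congrArg (((s⁻¹ : Sp) : M) *ᵥ ·) h0
    simp only [← mul_mulVec_sp, inv_mul_cancel, OneMemClass.coe_one, Matrix.one_mulVec,
      Matrix.mulVec_zero] at this
    exact this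
  · obtain ⟨s', hs'⟩ := QuotientGroup.mk_surjective ((phi (F := F))⁻¹ (QuotientGroup.mk s : PSp 2 F))
    refine ⟨phi⁻¹ * β, Or.inr (mul_inv_cancel_left _ _).symm, hgood _ ⟨(s' : M) *ᵥ e, fun h0 => he0 ?_, ?_⟩⟩
    · have := congrArg (((s'⁻¹ : Sp) : M) *ᵥ ·) h0
      simp only [← mul_mulVec_sp, inv_mul_cancel, OneMemClass.coe_one, Matrix.one_mulVec,
        Matrix.mulVec_zero] at this
      exact this
    rw [← map_rootX_conj, show (phi⁻¹ * β : MulAut (PSp 2 F)).toMonoidHom =
      (phi (F := F))⁻¹.toMonoidHom.comp β.toMonoidHom from rfl, ← Subgroup.map_map, hs, shortX,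
      Subgroup.map_map, Subgroup.map_map]
    congr 1
    refine MonoidHom.ext fun y => ?_
    change (phi (F := F))⁻¹ (QuotientGroup.mk s * phi (F := F) y * (QuotientGroup.mk s)⁻¹) =
      (QuotientGroup.mk s' : PSp 2 F) * y * (QuotientGroup.mk s')⁻¹
    rw [map_mul, map_mul, map_inv, MulAut.inv_apply_self, hs']

theorem exists_decomp (β : MulAut (PSp 2 F)) :
    ∃ (g : GSp 2 F) (σ : F ≃+* F), β = gAut g * fAut σ ∨ β = phi * (gAut g * fAut σ) := by
  obtain ⟨γ, hγ, hroot⟩ := exists_root_or β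
  obtain ⟨g, σ, rfl⟩ := exists_decomp_of_root le_rfl γ hroot
  exact ⟨g, σ, hγ⟩

theorem phi_ne (g : GSp 2 F) (σ : F ≃+* F) : (phi : MulAut (PSp 2 F)) ≠ gAut g * fAut σ := by
  intro h
  refine shortX_ne_rootX ((((g : GL I F)) : M) *ᵥ fun i => σ ((Pi.single (Sum.inr 0) 1 : Vec) i)) ?_
  rw [shortX, h, map_rootX_decomp]

theorem phi_phi_tv (c : F) :
    ((phi * phi : MulAut (PSp 2 F))) (QuotientGroup.mk (tv (Pi.single (Sum.inr 0) 1 : Vec) c)) =
      QuotientGroup.mk (tv (Pi.single (Sum.inr 0) 1 : Vec) (c ^ 2)) := by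
  rw [MulAut.mul_apply, phi_mk, phi_mk]
  refine congrArg QuotientGroup.mk (Subtype.ext ?_)
  rw [phiHom_coe]
  have h1 : ∀ a b : I, ((phiHom (tv (Pi.single (Sum.inr 0) 1 : Vec) c) : Sp) : M) a b =
      centreOp le_rfl (0 : F) c (Pi.single b 1) a := fun a b => by
    rw [← phi_tv_mulVec, Matrix.mulVec_single_one]
    rfl
  have h2 : ∀ a b : I, ((tv (Pi.single (Sum.inr 0) 1 : Vec) (c ^ 2) : Sp) : M) a b =
      (Pi.single b 1 : Vec) a + c ^ 2 * sf (Pi.single b 1) (Pi.single (Sum.inr 0) 1) *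
        (Pi.single (Sum.inr 0) 1 : Vec) a := fun a b => by
    have h := congrFun (tv_mulVec (Pi.single (Sum.inr 0) 1 : Vec) (Pi.single b 1) (c ^ 2)) a
    rwa [Matrix.mulVec_single_one] at h
  ext (i | i) (j | j) <;> fin_cases i <;> fin_cases j <;>
    simp [phiMat_apply, minor, pr, h1, h2, centreOp, form_inr, Pi.single_apply, CharTwo.neg_eq] <;> ring

end Cfsg.Agent.AutPSp.Exceptional
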