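import Cfsg.Agent.Lib.AutPSp.FieldCent
import Cfsg.Agent.Lib.AutPSp.Exceptional
import Cfsg.Agent.Lib.AutPSp.Count
import Cfsg.Agent.Lib.PLocal.Cores

/-!
# Local balance for field automorphisms of `PSp_{2m}(F)`

For a field automorphism `x` of prime order `p` in a group `A ≥ Inn(K)` of automorphisms of
`K = PSp_{2m}(F)`, the `p'`-core of `C_A(x)` is non-trivial exactly when `p` is prime to the order
of the fixed point group of `x` in `K`.
-/

set_option autoImplicit false

namespace Cfsg.Agent.AutPSp.LocalBalance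

open Matrix Cfsg.Agent.AutPSp.SylowCentre Cfsg.Agent.Forms.SympStd Cfsg.Agent.Classical.Symplectic Cfsg.Agent.AutPSp.Basic
  Cfsg.Agent.AutPSp.Main Cfsg.Agent.AutPSp.Conj Cfsg.Agent.AutPSp.FieldCent

universe u v

/-! ### Group theory -/

theorem core_eq_bot {H : Type u} [Group H] [Finite H] (p : ℕ) [Fact p.Prime] (D S : Subgroup H)
    [D.Normal] (hSD : S ≤ D) (hnorm : ∀ d ∈ D, ∀ s ∈ S, d * s * d⁻¹ ∈ S)
    (hS : ∀ N ≤ S, (∀ s ∈ S, ∀ n ∈ N, s * n * s⁻¹ ∈ N) → (Nat.card N).Coprime p → N = ⊥)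
    (hC : ∀ γ : H, (∀ s ∈ S, γ * s = s * γ) → ∃ k, γ ^ p ^ k = 1) :
    Cfsg.pPrimeCore p H = ⊥ := by
  set R := Cfsg.pPrimeCore p H
  have hR : (Nat.card R).Coprime p := PLocal.Cores.coprime_card_pPrimeCore
  have key : ∀ r ∈ R, (∀ s ∈ S, r * s = s * r) → r = 1 := by
    intro r hr hcent
    obtain ⟨k, hk⟩ := hC r hcent
    refine orderOf_eq_one_iff.1 (Nat.eq_one_of_dvd_coprimes (hR.pow_right k) ?_
      (orderOf_dvd_of_pow_eq_one hk))
    rw [← Subgroup.orderOf_mk r hr]
    exact orderOf_dvd_natCard _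
  have hRn : R.Normal := inferInstance
  have h0 : R ⊓ S = ⊥ := hS _ inf_le_right
    (fun s hs n hn => ⟨hRn.conj_mem n hn.1 s, S.mul_mem (S.mul_mem hs hn.2) (S.inv_mem hs)⟩)
    (hR.coprime_dvd_left (Subgroup.card_dvd_of_le inf_le_left))
  have h1 : ∀ r ∈ R, r ∈ D → r = 1 := fun r hr hrD => key r hr fun s hs => by
    have hmem : r * s * r⁻¹ * s⁻¹ ∈ R ⊓ S :=
      ⟨by simpa [mul_assoc] using R.mul_mem hr (hRn.conj_mem _ (R.inv_mem hr) s),
        S.mul_mem (hnorm r hrD s hs) (S.inv_mem hs)⟩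
    rw [h0, Subgroup.mem_bot, mul_inv_eq_one, mul_inv_eq_iff_eq_mul] at hmem
    exact hmem
  refine (Subgroup.eq_bot_iff_forall _).2 fun r hr => key r hr fun s hs => ?_
  have h2 := h1 (r * s * r⁻¹ * s⁻¹)
    (by simpa [mul_assoc] using R.mul_mem hr (hRn.conj_mem _ (R.inv_mem hr) s))
    (D.mul_mem ((inferInstance : D.Normal).conj_mem s (hSD hs) r) (D.inv_mem (hSD hs)))
  rwa [mul_inv_eq_one, mul_inv_eq_iff_eq_mul] at h2

theorem conj_mul_apply {G : Type u} [Group G] (x : MulAut G) (k : G) :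
    x * MulAut.conj k = MulAut.conj (x k) * x := by
  refine MulEquiv.ext fun y => ?_
  simp [MulAut.mul_apply, MulAut.conj_apply]

theorem conj_mem_centralizer_iff {G : Type u} [Group G]
    (hinj : Function.Injective (MulAut.conj : G →* MulAut G)) (x : MulAut G) (k : G) :
    MulAut.conj k ∈ Subgroup.centralizer {x} ↔ x k = k := by
  rw [Subgroup.mem_centralizer_singleton_iff]
  constructor
  · intro h
    rw [conj_mul_apply] at h
    exact hinj (mul_right_cancel h).symm
  · intro h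
    rw [conj_mul_apply, h]

theorem core_ne_bot {G : Type u} [Group G] [Finite G]
    (hinj : Function.Injective (MulAut.conj : G →* MulAut G)) (A : Subgroup (MulAut G))
    (hinn : ∀ k : G, MulAut.conj k ∈ A) (x : MulAut G) (p : ℕ)
    (hne : ∃ k : G, k ≠ 1 ∧ x k = k)
    (hcop : Nat.Coprime p (Nat.card (MonoidHom.eqLocus x.toMonoidHom (MonoidHom.id G)))) :
    Cfsg.pPrimeCore p ↥(A ⊓ Subgroup.centralizer {x}) ≠ ⊥ := by
  set L := MonoidHom.eqLocus x.toMonoidHom (MonoidHom.id G)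
  set H := A ⊓ Subgroup.centralizer {x}
  let f : L →* H := ((MulAut.conj : G →* MulAut G).comp L.subtype).codRestrict H fun k =>
    ⟨hinn _, (conj_mem_centralizer_iff hinj x (k : G)).2 k.2⟩
  have hn : f.range.Normal := ⟨by
    rintro _ ⟨k, rfl⟩ γ
    have h1 : x ((γ : MulAut G) (k : G)) = (γ : MulAut G) (k : G) := by
      have h := DFunLike.congr_fun (Subgroup.mem_centralizer_singleton_iff.1 γ.2.2) (k : G)
      rw [MulAut.mul_apply, MulAut.mul_apply, show x (k : G) = k from k.2] at h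
      exact h.symm
    refine ⟨⟨_, h1⟩, Subtype.ext ?_⟩
    change MulAut.conj ((γ : MulAut G) (k : G)) = (γ : MulAut G) * MulAut.conj (k : G) * (γ : MulAut G)⁻¹
    rw [conj_mul_apply, mul_inv_cancel_right]⟩
  intro h
  have hle := PLocal.Cores.le_pPrimeCore (N := f.range) (p := p)
    ((Nat.Coprime.symm hcop).coprime_dvd_left (Subgroup.card_range_dvd f))
  rw [h, le_bot_iff, Subgroup.eq_bot_iff_forall] at hle
  obtain ⟨k, hk1, hk⟩ := hne
  refine hk1 (hinj ?_)
  have := congrArg Subtype.val (hle (f ⟨k, hk⟩) ⟨_, rfl⟩)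
  rw [map_one]
  exact this

/-- `τ` fixing the fixed field of `σ` is a power of `σ`. -/
theorem mem_zpowers_of_fix {F : Type u} [Field F] [Finite F] (σ τ : F ≃+* F)
    (h : ∀ x, σ x = x → τ x = x) : τ ∈ Subgroup.zpowers σ := by
  have : Finite (F ≃+* F) := Finite.of_injective (fun e => (e : F → F)) DFunLike.coe_injective
  let G := Subgroup.zpowers σ
  let : MulSemiringAction G F :=
    MulSemiringAction.compHom F (Subgroup.zpowers σ).subtype
  have : FaithfulSMul G F := ⟨fun {a b} e => Subtype.ext (RingEquiv.ext e)⟩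
  let τ' : F ≃ₐ[FixedPoints.subfield G F] F :=
    AlgEquiv.ofRingEquiv (f := τ) fun c => h _ (c.2 ⟨σ, Subgroup.mem_zpowers σ⟩)
  obtain ⟨g, hg⟩ := FixedPoints.toAlgAut_surjective G F τ'
  have : (g : F ≃+* F) = τ := RingEquiv.ext fun x => DFunLike.congr_fun hg x
  exact this ▸ g.2

/-! ### The symplectic group over the fixed field -/

variable {F : Type u} [Field F] {m : ℕ} {F₀ : Type v} [Field F₀]

local notation "I" => (Fin m ⊕ Fin m)
local notation "Vec" => (Fin m ⊕ Fin m → F)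
local notation "M" => Matrix (Fin m ⊕ Fin m) (Fin m ⊕ Fin m) F
local notation "Sp" => Matrix.symplecticGroup (Fin m) F
local notation "sf" => Cfsg.sympForm m F

variable (ι : F₀ →+* F)

/-- The action of the symplectic group over the subfield. -/
noncomputable def ψ : Matrix.symplecticGroup (Fin m) F₀ →* MulAut (PSp m F) :=
  (subAct ι).comp toGSp

theorem map_mem (s : Matrix.symplecticGroup (Fin m) F₀) :
    ((s : Matrix I I F₀)).map ι ∈ Matrix.symplecticGroup (Fin m) F := by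
  have h := congrArg (fun X : Matrix I I F₀ => X.map ι) (SymplecticGroup.mem_iff.1 s.2)
  have hJ : (J (Fin m) F₀).map ι = J (Fin m) F := by
    ext (i | i) (j | j) <;> simp [J, Matrix.one_apply, apply_ite ι]
  simp only [Matrix.map_mul, Matrix.transpose_map, hJ] at h
  exact SymplecticGroup.mem_iff.2 h

theorem ψ_eq_conj (s : Matrix.symplecticGroup (Fin m) F₀) :
    ψ ι s = MulAut.conj (QuotientGroup.mk ⟨_, map_mem ι s⟩ : PSp m F) := by
  rw [conj_mk_eq_gAut]
  exact congrArg gAut (Subtype.ext (Units.ext rfl))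

theorem ψ_eq_one_iff (hm : 1 ≤ m) (s : Matrix.symplecticGroup (Fin m) F₀) :
    ψ ι s = 1 ↔ s ∈ Subgroup.center (Matrix.symplecticGroup (Fin m) F₀) := by
  rw [mem_center_iff, ψ, MonoidHom.comp_apply, ← MonoidHom.mem_ker, subAct_ker ι hm,
    Subgroup.mem_subgroupOf]
  constructor
  · rintro ⟨c, hc⟩
    refine ⟨(c : F₀), fun w => ?_⟩
    have := congrArg (fun g : GL I F₀ => (g : Matrix I I F₀) *ᵥ w) hc
    rw [← toGSp_coe s, ← this]
    funext i
    change (Matrix.scalar I (c : F₀) *ᵥ w) i = _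
    simp [Matrix.mulVec_diagonal]
  · rintro ⟨a, ha⟩
    have ha0 : a ≠ 0 := fun h0 => by
      have h1 := sympForm_mulVec s (Pi.single (Sum.inr ⟨0, hm⟩) 1) (Pi.single (Sum.inl ⟨0, hm⟩) 1)
      rw [ha, ha, h0, zero_smul, zero_smul, sympForm_inr_inl, if_pos rfl] at h1
      simp [sympForm_eq] at h1
    refine ⟨Units.mk0 a ha0, Units.ext (Matrix.ext_iff_mulVec.2 fun w => ?_)⟩
    rw [toGSp_coe, ha]
    funext i
    change (Matrix.scalar I a *ᵥ w) i = _
    simp [Matrix.mulVec_diagonal]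

theorem subAct_conj (g : GSp m F₀) (s : Matrix.symplecticGroup (Fin m) F₀) :
    subAct ι g * ψ ι s * (subAct ι g)⁻¹ = ψ ι (conjSp g s) := by
  rw [ψ, MonoidHom.comp_apply, ← map_inv, ← map_mul, ← map_mul]
  exact congrArg (subAct ι) (Subtype.ext (Units.ext (conjSp_coe g s).symm))

/-- Squares of elements of `PGSp` come from `Sp`. -/
theorem subAct_sq_mem (hm : 1 ≤ m) (g : GSp m F₀) : subAct ι g ^ 2 ∈ (ψ (m := m) ι).range := by
  set c := mult hm g
  set g' : GSp m F₀ := scG c⁻¹ * g ^ 2 with hg'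
  have hmu : mult hm g' = 1 := by
    have h : mult hm (scG c⁻¹ : GSp m F₀) = c⁻¹ ^ 2 := Units.ext (mult0_eq hm _ fun u v => by
      rw [scG_mulVec, scG_mulVec, f_smul_left, f_smul_right, Units.val_pow_eq_pow_val]
      ring)
    rw [hg', map_mul, h, map_pow, ← mul_pow, inv_mul_cancel, one_pow]
  have hmem : ((g' : GL I F₀) : Matrix I I F₀) ∈ Matrix.symplecticGroup (Fin m) F₀ :=
    mem_sp_iff.2 fun u v => by
      rw [mult0_spec]
      change ((mult hm g' : F₀ˣ) : F₀) * _ = _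
      rw [hmu, Units.val_one, one_mul]
  refine ⟨⟨_, hmem⟩, ?_⟩
  rw [ψ, MonoidHom.comp_apply, show toGSp ⟨_, hmem⟩ = g' from gsp_ext fun v => rfl, hg', map_mul,
    map_pow]
  have h1 : subAct ι (scG c⁻¹ : GSp m F₀) = 1 := by
    rw [← MonoidHom.mem_ker, subAct_ker ι hm, Subgroup.mem_subgroupOf]
    exact ⟨c⁻¹, rfl⟩
  rw [h1, one_mul]

/-- Two transvection classes with a common element belong to the same point. -/
theorem par_of_mk_eq {v w : Vec} (hv : v ≠ 0) (hw : w ≠ 0) {d : F}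
    (h : (QuotientGroup.mk (tv v 1) : PSp m F) = QuotientGroup.mk (tv w d)) : Par v w := by
  obtain ⟨a, ha⟩ := (mk_eq_mk_iff _ _).1 h
  by_contra hpar
  have hli : LinearIndependent F ![v, w] := by
    refine (LinearIndependent.pair_iff' hv).2 fun c hc => hpar ⟨c, ?_, hc.symm⟩
    rintro rfl
    exact hw (by rw [← hc, zero_smul])
  obtain ⟨y, hy⟩ := exists_partner hv
  have key : ∀ x : Vec, (a * sf x v) • v + (-(d * sf x w)) • w + (a - 1) • x = 0 := fun x => by
    have h1 := ha x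
    rw [tv_mulVec, tv_mulVec, one_mul, smul_add, smul_smul] at h1
    rw [sub_smul, one_smul, neg_smul]
    linear_combination (norm := module) -h1
  have h2 := key w
  rw [sympForm_self, mul_zero, neg_zero, zero_smul, add_zero] at h2
  obtain ⟨-, ha1⟩ := LinearIndependent.pair_iff.1 hli _ _ h2
  have h3 := key y
  rw [ha1, zero_smul, add_zero] at h3
  obtain ⟨h4, -⟩ := LinearIndependent.pair_iff.1 hli _ _ h3
  rw [sympForm_swap, hy, sub_eq_zero.1 ha1] at h4
  simp at h4

theorem decomp_eq_field (hm : 1 ≤ m) (g : GSp m F) (τ : F ≃+* F)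
    (h : ∀ v : I → F₀, v ≠ 0 → (gAut g * fAut τ : MulAut (PSp m F))
      (QuotientGroup.mk (tv (fun i => ι (v i)) 1)) = QuotientGroup.mk (tv (fun i => ι (v i)) 1)) :
    (gAut g * fAut τ : MulAut (PSp m F)) = fAut τ ∧ ∀ y, τ (ι y) = ι y := by
  classical
  have hpar : ∀ v : I → F₀, v ≠ 0 →
      ∃ c : F, ((g : GL I F) : M) *ᵥ (fun i => τ (ι (v i))) = c • fun i => ι (v i) := by
    intro v hv
    have hv' : (fun i => ι (v i)) ≠ (0 : Vec) := fun e => hv (funext fun i => ι.injective (by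
      rw [congrFun e i, Pi.zero_apply, Pi.zero_apply, map_zero]))
    obtain ⟨c, -, hc⟩ := gAut_tv g
    have h1 := h v hv
    rw [MulAut.mul_apply, fAut_tv, hc] at h1
    obtain ⟨e, -, he⟩ := par_of_mk_eq hv' (gl_mulVec_ne_zero _ (field_vec_ne_zero τ hv')) h1.symm
    exact ⟨e, he⟩
  have hs : ∀ k : I, (fun i => ι ((Pi.single k 1 : I → F₀) i)) = (Pi.single k 1 : Vec) := fun k =>
    funext fun i => by by_cases hi : i = k <;> simp [hi]
  have hs' : ∀ k : I, (fun i => τ ((Pi.single k 1 : Vec) i)) = (Pi.single k 1 : Vec) := fun k =>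
    funext fun i => by by_cases hi : i = k <;> simp [hi]
  have hcol : ∀ k : I, ∃ a : F, ((g : GL I F) : M) *ᵥ Pi.single k 1 = a • Pi.single k 1 := fun k => by
    obtain ⟨a, ha⟩ := hpar _ (Points.single_ne_zero k)
    rw [hs, show (fun i => τ (ι ((Pi.single k 1 : I → F₀) i))) = fun i => τ ((Pi.single k 1 : Vec) i)
      from funext fun i => by rw [← congrFun (hs k) i], hs'] at ha
    exact ⟨a, ha⟩
  choose a ha using hcol
  have hpair : ∀ (k l : I) (y : F₀), k ≠ l → a l * τ (ι y) = a k * ι y := by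
    intro k l y hkl
    obtain ⟨c, hc⟩ := hpar (Pi.single k 1 + y • Pi.single l 1) fun e => by
      simpa [hkl] using congrFun e k
    have e : (fun i => τ (ι ((Pi.single k 1 + y • Pi.single l 1 : I → F₀) i))) =
        (Pi.single k 1 + τ (ι y) • Pi.single l 1 : Vec) := funext fun i => by
      by_cases hi : i = k <;> by_cases hi' : i = l <;> simp_all
    rw [e, Matrix.mulVec_add, Matrix.mulVec_smul, ha, ha] at hc
    have h1 := congrFun hc k
    have h2 := congrFun hc l
    simp [hkl, Ne.symm hkl] at h1 h2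
    rw [h1, mul_comm, h2]
  set i0 : I := Sum.inl ⟨0, hm⟩
  have heq : ∀ k, a k = a i0 := fun k => by
    by_cases hk : k = i0
    · rw [hk]
    · simpa using (hpair k i0 1 hk).symm
  have ha0 : a i0 ≠ 0 := fun h0 => gl_mulVec_ne_zero (g : GL I F) (Points.single_ne_zero i0) (by
    rw [ha, h0, zero_smul])
  have hg : g = scG (Units.mk0 _ ha0) := by
    refine Subtype.ext (Units.ext (Matrix.ext_of_mulVec_single fun k => ?_))
    rw [ha, heq]
    exact (scG_mulVec (Units.mk0 _ ha0) _).symm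
  refine ⟨by rw [hg, gAut_scG hm, one_mul], fun y => ?_⟩
  have hne : Sum.inr ⟨0, hm⟩ ≠ i0 := Sum.inr_ne_inl
  exact mul_left_cancel₀ ha0 ((hpair _ _ y hne).trans (by rw [heq]))

theorem phi_tv_ne {E : Type u} [Field E] [Fintype E] [CharP E 2] {c d : E} (hc : c ≠ 0)
    (w : Fin 2 ⊕ Fin 2 → E) :
    Exceptional.phi (F := E) (QuotientGroup.mk (tv (Pi.single (Sum.inr 0) 1 : Fin 2 ⊕ Fin 2 → E) c)) ≠
      QuotientGroup.mk (tv w d) := by
  intro hc1
  rw [Exceptional.phi_mk] at hc1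
  obtain ⟨a, ha⟩ := (mk_eq_mk_iff _ _).1 hc1.symm
  have hh : ∀ k, centreOp le_rfl (0 : E) c (Pi.single k 1) =
      a • ((Pi.single k 1 : Fin 2 ⊕ Fin 2 → E) + (d * Cfsg.sympForm 2 E (Pi.single k 1) w) • w) :=
    fun k => by rw [← Exceptional.phi_tv_mulVec, ha, tv_mulVec]
  have hk : ∀ k l, centreOp le_rfl (0 : E) c (Pi.single k 1) l =
      a * ((Pi.single k 1 : Fin 2 ⊕ Fin 2 → E) l + d * Cfsg.sympForm 2 E (Pi.single k 1) w * w l) :=
    fun k l => congrFun (hh k) l
  have e11 := hk (Sum.inl 1) (Sum.inr 0)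
  have e00 := hk (Sum.inl 0) (Sum.inr 1)
  have e01 := hk (Sum.inl 0) (Sum.inr 0)
  simp [centreOp, Pi.single_apply, sympForm_eq, Fin.sum_univ_two, CharTwo.neg_eq,
    CharTwo.sub_eq_add] at e11 e00 e01
  grind

variable [Fintype F]

/-- The decomposition for the elements centralising the rational transvections. -/
theorem exists_field_of_fix {r : ℕ} [Fact r.Prime] [CharP F r] (hm : 2 ≤ m)
    (γ : MulAut (PSp m F))
    (h : ∀ v : I → F₀, v ≠ 0 → γ (QuotientGroup.mk (tv (fun i => ι (v i)) 1)) =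
      QuotientGroup.mk (tv (fun i => ι (v i)) 1)) :
    ∃ τ : F ≃+* F, γ = fAut τ ∧ ∀ y, τ (ι y) = ι y := by
  by_cases hex : r = 2 ∧ m = 2
  · obtain ⟨rfl, rfl⟩ := hex
    obtain ⟨g, τ, rfl | rfl⟩ := Exceptional.exists_decomp γ
    · obtain ⟨e1, e2⟩ := decomp_eq_field ι (by omega) g τ h
      exact ⟨τ, e1, e2⟩
    · exfalso
      set e : Fin 2 ⊕ Fin 2 → F := Pi.single (Sum.inr 0) 1
      have he : (fun i => ι ((Pi.single (Sum.inr 0) 1 : Fin 2 ⊕ Fin 2 → F₀) i)) = e := funext fun i => by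
        by_cases hi : i = Sum.inr 0 <;> simp [e, hi]
      have h1 := h _ (Points.single_ne_zero (Sum.inr 0))
      rw [he, MulAut.mul_apply, MulAut.mul_apply, fAut_tv] at h1
      obtain ⟨c, hc0, hc⟩ := gAut_tv g
      rw [hc, map_one] at h1
      have he0 : e ≠ 0 := Points.single_ne_zero _
      obtain ⟨s, hs⟩ := exists_move he0 (gl_mulVec_ne_zero (g : GL (Fin 2 ⊕ Fin 2) F)
        (field_vec_ne_zero τ he0))
      rw [← hs, ← tv_conj, QuotientGroup.mk_mul, QuotientGroup.mk_mul, map_mul, map_mul,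
        QuotientGroup.mk_inv, map_inv, Exceptional.phi_mk s] at h1
      refine phi_tv_ne (div_ne_zero one_ne_zero hc0) (((Exceptional.phiHom s)⁻¹ : _) *ᵥ e) (d := 1) ?_
      rw [← tv_conj, inv_inv, QuotientGroup.mk_mul, QuotientGroup.mk_mul, QuotientGroup.mk_inv, ← h1]
      simp only [e]; group
  · obtain ⟨g, τ, rfl⟩ := Main.exists_decomp r hm (fun e => by
      by_contra hlt; exact hex ⟨e, by omega⟩) γ
    obtain ⟨e1, e2⟩ := decomp_eq_field ι (by omega) g τ h
    exact ⟨τ, e1, e2⟩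

/-! ### Elements of prime order -/

/-- An element of prime order that is not inner-diagonal is a field automorphism. -/
theorem exists_field_conj {r : ℕ} [Fact r.Prime] [CharP F r] (hm : 2 ≤ m) {p : ℕ} [Fact p.Prime]
    (hpr : p ≠ r) (x : MulAut (PSp m F)) (hord : orderOf x = p) (hnot : ¬ IsInnerDiagonalAutPSp x) :
    ∃ (B : GSp m F) (σ : F ≃+* F), orderOf σ = p ∧ x = gAut B * fAut σ * (gAut B)⁻¹ := by
  have hp : p.Prime := Fact.out
  have hxp : x ^ p = 1 := hord ▸ pow_orderOf_eq_one x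
  obtain ⟨g, σ, rfl⟩ : ∃ (g : GSp m F) (σ : F ≃+* F), x = gAut g * fAut σ := by
    by_cases hex : r = 2 ∧ m = 2
    · obtain ⟨rfl, rfl⟩ := hex
      obtain ⟨g, σ, h | h⟩ := Exceptional.exists_decomp x
      · exact ⟨g, σ, h⟩
      obtain ⟨g', σ', h' | h'⟩ := Exceptional.exists_decomp (x * x)
      · have hcl : ∀ k, ∃ (a : GSp 2 F) (τ : F ≃+* F), (x * x) ^ k = gAut a * fAut τ := fun k => by
          rw [h', pow_gAut_fAut]
          exact ⟨_, _, rfl⟩
        obtain ⟨a, τ, ha⟩ := hcl ((p + 1) / 2)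
        refine ⟨a, τ, ?_⟩
        obtain ⟨k, hk⟩ := hp.odd_of_ne_two hpr
        rw [← ha, hk, show (2 * k + 1 + 1) / 2 = k + 1 by omega, ← pow_two, ← pow_mul,
          show 2 * (k + 1) = p + 1 by omega, pow_succ, hxp, one_mul]
      · refine ⟨fieldGSp σ.symm g⁻¹ * fieldGSp σ.symm g', σ⁻¹ * σ', ?_⟩
        have h1 : x = (gAut g * fAut σ)⁻¹ * (gAut g' * fAut σ') := by
          rw [eq_inv_mul_iff_mul_eq, ← mul_left_cancel_iff (a := (Exceptional.phi : MulAut (PSp 2 F))),
            ← mul_assoc, ← h, ← h']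
        rw [h1, _root_.mul_inv_rev, ← map_inv, ← map_inv, fAut_mul_gAut,
          show (σ.symm : F ≃+* F) = σ⁻¹ from rfl, mul_assoc, ← mul_assoc (fAut σ⁻¹), fAut_mul_gAut,
          map_mul gAut, map_mul fAut]
        simp [mul_assoc]
    · exact Main.exists_decomp r hm (fun e => by by_contra hlt; exact hex ⟨e, by omega⟩) x
  have h2 := hxp
  rw [pow_gAut_fAut] at h2
  obtain ⟨hσp, -⟩ := mul_field_eq_one (by omega) h2
  have hσ1 : σ ≠ 1 := by
    rintro rfl
    refine hnot ?_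
    exact (isInnerDiagonalAutPSp_iff _).2 ⟨g, by simp⟩
  have hσ := orderOf_eq_prime hσp hσ1
  obtain ⟨B, hB⟩ := exists_decomp_field (by omega) σ hσ g hxp
  exact ⟨B, σ, hσ, hB⟩

/-! ### Normal subgroups of the rational symplectic group -/

theorem exists_not_par {E : Type v} [Field E] {g : Matrix.symplecticGroup (Fin m) E}
    (hg : g ∉ Subgroup.center (Matrix.symplecticGroup (Fin m) E)) :
    ∃ w : I → E, ∀ a : E, (g : Matrix I I E) *ᵥ w ≠ a • w := by
  by_contra h
  push Not at h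
  exact hg ((mem_center_iff g).2 (eq_scalar_of_fixes_lines g h))

theorem small_normal {E : Type v} [Field E] (hE : ∀ a : E, a = 0 ∨ a = 1)
    (N : Subgroup (Matrix.symplecticGroup (Fin 2) E)) [N.Normal]
    (hN : ¬ N ≤ Subgroup.center _) (q : ℕ) (hq : q = 3 ∨ q = 5) :
    ∃ n ∈ N, n ∉ Subgroup.center _ ∧ n ^ q = 1 := by
  classical
  have h2 : (2 : E) = 0 := by
    rcases hE 2 with h | h
    · exact h
    · exact absurd (by linear_combination h : (1 : E) = 0) one_ne_zero
  have : CharP E 2 := CharTwo.of_one_ne_zero_of_two_eq_zero one_ne_zero h2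
  obtain ⟨g, hgN, hg⟩ := Set.not_subset.1 hN
  obtain ⟨w, hw⟩ := exists_not_par hg
  set u := (g : Matrix (Fin 2 ⊕ Fin 2) (Fin 2 ⊕ Fin 2) E) *ᵥ w
  have hw0 : w ≠ 0 := fun h => hw 0 (by simp [u, h])
  have hli : LinearIndependent E ![u, w] :=
    LinearIndependent.pair_symm_iff.1 ((LinearIndependent.pair_iff' (x := w) (y := u) hw0).2 fun a e => hw a e.symm)
  have hmem : tv u 1 * tv w 1 ∈ N := by
    have h1 : g * (tv w 1 * g⁻¹ * (tv w 1)⁻¹) ∈ N :=
      N.mul_mem hgN ((inferInstance : N.Normal).conj_mem _ (N.inv_mem hgN) _)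
    rw [← mul_assoc, ← mul_assoc, tv_conj] at h1
    have hinv : (tv w (1 : E))⁻¹ = tv w 1 := inv_eq_of_mul_eq_one_right (by
      rw [tv_mul, one_add_one_eq_two, h2, tv_zero])
    rwa [hinv] at h1
  have hmove : ∀ a b : Fin 2 ⊕ Fin 2 → E, LinearIndependent E ![a, b] →
      Cfsg.sympForm 2 E a b = Cfsg.sympForm 2 E u w → tv a 1 * tv b 1 ∈ N := by
    intro a b hab hf
    obtain ⟨A, hA1, hA2⟩ := exists_map_pair hli hab hf.symm
    have h1 := (inferInstance : N.Normal).conj_mem _ hmem A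
    rwa [show A * (tv u 1 * tv w 1) * A⁻¹ = (A * tv u 1 * A⁻¹) * (A * tv w 1 * A⁻¹) by group,
      tv_conj, tv_conj, hA1, hA2] at h1
  have hhyp : ∀ a b : Fin 2 ⊕ Fin 2 → E, Cfsg.sympForm 2 E a b = 1 → tv a 1 * tv b 1 ∈ N := by
    have hli' : ∀ a b : Fin 2 ⊕ Fin 2 → E, Cfsg.sympForm 2 E a b = 1 →
        LinearIndependent E ![a, b] := fun a b hab => by
      refine (LinearIndependent.pair_iff' fun h => ?_).2 fun c hc => ?_
      · simp [h, sympForm_eq] at hab
      · rw [← hc, f_smul_right, sympForm_self, mul_zero] at hab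
        exact zero_ne_one hab
    rcases hE (Cfsg.sympForm 2 E u w) with h0 | h1
    · set e1 : Fin 2 ⊕ Fin 2 → E := Pi.single (Sum.inl 0) 1
      set e2 : Fin 2 ⊕ Fin 2 → E := Pi.single (Sum.inl 1) 1
      set f1 : Fin 2 ⊕ Fin 2 → E := Pi.single (Sum.inr 0) 1
      have hs : ∀ k l : Fin 2 ⊕ Fin 2, k ≠ l → LinearIndependent E
          ![(Pi.single k 1 : Fin 2 ⊕ Fin 2 → E), Pi.single l 1] := fun k l hkl =>
        (LinearIndependent.pair_iff' (Points.single_ne_zero k)).2 fun c hc => by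
          have := congrFun hc l
          simp [Ne.symm hkl] at this
      have h12 : tv e1 1 * tv e2 1 ∈ N := hmove _ _ (hs _ _ (by simp)) (by
        rw [h0, sympForm_inl_inl])
      have h2f : tv e2 1 * tv f1 1 ∈ N := hmove _ _ (hs _ _ (by simp)) (by
        rw [h0, sympForm_inl_inr]; simp)
      have hsq : tv e2 (1 : E) * tv e2 1 = 1 := by rw [tv_mul, one_add_one_eq_two, h2, tv_zero]
      have hef : tv e1 1 * tv f1 1 ∈ N := by
        have := N.mul_mem h12 h2f
        rwa [mul_assoc, ← mul_assoc (tv e2 1), hsq, one_mul] at this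
      intro a b hab
      obtain ⟨A, hA1, hA2⟩ := exists_map_pair (hli' e1 f1 (by
        rw [sympForm_inl_inr, if_pos rfl, CharTwo.neg_eq])) (hli' a b hab) (by
        rw [hab, sympForm_inl_inr, if_pos rfl, CharTwo.neg_eq])
      have h1 := (inferInstance : N.Normal).conj_mem _ hef A
      rwa [show A * (tv e1 1 * tv f1 1) * A⁻¹ = (A * tv e1 1 * A⁻¹) * (A * tv f1 1 * A⁻¹) by group,
        tv_conj, tv_conj, hA1, hA2] at h1
    · exact fun a b hab => hmove a b (hli' a b hab) (by rw [hab, h1])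
  set e1 : Fin 2 ⊕ Fin 2 → E := Pi.single (Sum.inl 0) 1
  set f1 : Fin 2 ⊕ Fin 2 → E := Pi.single (Sum.inr 0) 1
  set a : Fin 2 ⊕ Fin 2 → E := Pi.single (Sum.inl 0) 1 + Pi.single (Sum.inl 1) 1
  set f2 : Fin 2 ⊕ Fin 2 → E := Pi.single (Sum.inr 1) 1
  set X := tv e1 1 * tv f1 1
  have hX : X ∈ N := hhyp _ _ (by rw [sympForm_inl_inr, if_pos rfl, CharTwo.neg_eq])
  have hY : tv a 1 * tv f2 1 ∈ N := hhyp _ _ (by
    simp [a, f2, sympForm_eq, Fin.sum_univ_two, Pi.single_apply, CharTwo.neg_eq])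
  set T := X * (tv a 1 * tv f2 1)
  have hXx : ∀ x : Fin 2 ⊕ Fin 2 → E, (X : Matrix (Fin 2 ⊕ Fin 2) (Fin 2 ⊕ Fin 2) E) *ᵥ x =
      Sum.elim ![x (Sum.inr 0), x (Sum.inl 1)] ![x (Sum.inl 0) + x (Sum.inr 0), x (Sum.inr 1)] := by
    intro x
    rw [show X = tv e1 1 * tv f1 1 from rfl, mul_mulVec_sp, tv_mulVec, tv_mulVec]
    funext k
    obtain (i | i) := k <;> fin_cases i <;>
      simp [X, e1, f1, mul_mulVec_sp, tv_mulVec, sympForm_eq, Fin.sum_univ_two, Pi.single_apply,
        CharTwo.neg_eq, CharTwo.sub_eq_add] <;> ring_nf <;>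
      simp [CharTwo.two_eq_zero, CharTwo.ofNat_eq_mod]
  have hTx : ∀ x : Fin 2 ⊕ Fin 2 → E, (T : Matrix (Fin 2 ⊕ Fin 2) (Fin 2 ⊕ Fin 2) E) *ᵥ x =
      Sum.elim ![x (Sum.inr 0), x (Sum.inr 0) + x (Sum.inr 1)]
        ![x (Sum.inl 0) + x (Sum.inl 1) + x (Sum.inr 1), x (Sum.inl 1) + x (Sum.inr 1)] := by
    intro x
    rw [show T = X * (tv a 1 * tv f2 1) from rfl, mul_mulVec_sp, hXx, mul_mulVec_sp, tv_mulVec,
      tv_mulVec]
    funext k
    obtain (i | i) := k <;> fin_cases i <;>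
      simp [T, a, f2, mul_mulVec_sp, hXx, tv_mulVec, sympForm_eq, Fin.sum_univ_two, Pi.single_apply,
        CharTwo.neg_eq, CharTwo.sub_eq_add] <;> ring_nf <;>
      simp [CharTwo.two_eq_zero, CharTwo.ofNat_eq_mod]
  have hne : ∀ Z : Matrix.symplecticGroup (Fin 2) E,
      ((Z : Matrix (Fin 2 ⊕ Fin 2) (Fin 2 ⊕ Fin 2) E) *ᵥ e1) (Sum.inr 0) ≠ 0 →
      Z ∉ Subgroup.center _ := fun Z hZ hc => by
    obtain ⟨c, hc'⟩ := (mem_center_iff Z).1 hc
    simp [hc', e1] at hZ
  rcases hq with rfl | rfl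
  · refine ⟨X, hX, hne _ (by simp [hXx, e1]), sp_ext fun x => ?_⟩
    simp only [pow_succ, pow_zero, one_mul, mul_mulVec_sp, hXx, OneMemClass.coe_one, Matrix.one_mulVec]
    funext k
    obtain (i | i) := k <;> fin_cases i <;> simp <;> ring_nf <;>
      simp [CharTwo.two_eq_zero, CharTwo.ofNat_eq_mod]
  · refine ⟨T, N.mul_mem hX hY, hne _ (by simp [hTx, e1]), sp_ext fun x => ?_⟩
    simp only [pow_succ, pow_zero, one_mul, mul_mulVec_sp, hTx, OneMemClass.coe_one, Matrix.one_mulVec]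
    funext k
    obtain (i | i) := k <;> fin_cases i <;> simp <;> ring_nf <;>
      simp [CharTwo.two_eq_zero, CharTwo.ofNat_eq_mod]

variable [Fintype F₀]

omit [Fintype F] in
/-- A subgroup of `p'`-order normalised by the image of `Sp` is trivial. -/
theorem invariant_coprime_eq_bot (hm : 2 ≤ m) {p : ℕ} [Fact p.Prime]
    (hodd : m = 2 → (∀ a : F₀, a = 0 ∨ a = 1) → p ≠ 2)
    (hel : ∃ s, ψ (m := m) ι s ≠ 1 ∧ ψ ι s ^ p = 1)
    (N : Subgroup (MulAut (PSp m F))) (hle : N ≤ (ψ (m := m) ι).range)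
    (hinv : ∀ s, ∀ n ∈ N, ψ ι s * n * (ψ ι s)⁻¹ ∈ N) (hcop : (Nat.card N).Coprime p) : N = ⊥ := by
  set N' := N.comap (ψ (m := m) ι)
  have hN' : N'.Normal := ⟨fun n hn s => by
    rw [Subgroup.mem_comap, map_mul, map_mul, map_inv]
    exact hinv s _ hn⟩
  have hno : ∀ t, ψ ι t ∈ N → ψ ι t ^ p = 1 → ψ ι t = 1 := fun t ht hp => by
    refine orderOf_eq_one_iff.1 (Nat.eq_one_of_dvd_coprimes hcop ?_ (orderOf_dvd_of_pow_eq_one hp))
    rw [← Subgroup.orderOf_mk _ ht]
    exact orderOf_dvd_natCard _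
  by_cases hc : N' ≤ Subgroup.center _
  · refine (Subgroup.eq_bot_iff_forall N).2 fun n hn => ?_
    obtain ⟨t, rfl⟩ := hle hn
    exact (ψ_eq_one_iff ι (by omega) t).2 (hc hn)
  exfalso
  by_cases hsmall : m = 2 ∧ ∀ a : F₀, a = 0 ∨ a = 1
  · obtain ⟨rfl, hsmall⟩ := hsmall
    obtain ⟨s, hs1, hsp⟩ := hel
    have hp : p.Prime := Fact.out
    have hcard : Fintype.card F₀ = 2 := by
      classical
      rw [← Finset.card_univ, show (Finset.univ : Finset F₀) = {0, 1} from ?_]
      · simp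
      · ext a; simpa using hsmall a
    have hdvd : p ∣ 720 := by
      have h1 := orderOf_eq_prime hsp hs1
      have h2 : orderOf (ψ ι s) ∣ orderOf s := orderOf_map_dvd _ _
      rw [h1] at h2
      have h3 := h2.trans (orderOf_dvd_natCard s)
      rwa [natCard_sp, hcard] at h3
    have hp35 : p = 3 ∨ p = 5 := by
      have hle : p ∣ 2 ^ 4 * (3 ^ 2 * 5) := hdvd
      rcases hp.dvd_mul.1 hle with h | h
      · exact absurd ((Nat.prime_dvd_prime_iff_eq hp Nat.prime_two).1 (hp.dvd_of_dvd_pow h)) (hodd rfl hsmall)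
      rcases hp.dvd_mul.1 h with h | h
      · exact Or.inl ((Nat.prime_dvd_prime_iff_eq hp Nat.prime_three).1 (hp.dvd_of_dvd_pow h))
      · exact Or.inr ((Nat.prime_dvd_prime_iff_eq hp (by norm_num)).1 h)
    obtain ⟨n, hn, hnc, hnp⟩ := small_normal hsmall N' hc p hp35
    exact hnc ((ψ_eq_one_iff ι (by omega) n).1 (hno n hn (by rw [← map_pow, hnp, map_one])))
  · have hS : IsSimpleGroup (PSp m F₀) := isSimpleGroup_PSp hm fun e => by
      by_contra h
      push Not at h
      exact hsmall ⟨e, fun a => or_iff_not_imp_left.2 (h a)⟩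
    set π := QuotientGroup.mk' (Subgroup.center (Matrix.symplecticGroup (Fin m) F₀))
    rcases (hN'.map π (QuotientGroup.mk'_surjective _)).eq_bot_or_eq_top with h | h
    · rw [Subgroup.map_eq_bot_iff, QuotientGroup.ker_mk'] at h
      exact hc h
    · obtain ⟨s, hs1, hsp⟩ := hel
      obtain ⟨n, hn, hns⟩ := (h ▸ Subgroup.mem_top (π s) : π s ∈ N'.map π)
      have hz : ψ ι (n⁻¹ * s) = 1 := (ψ_eq_one_iff ι (by omega) _).2 (QuotientGroup.eq.1 hns)
      rw [map_mul, map_inv, inv_mul_eq_one] at hz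
      exact hs1 (hno s (hz ▸ hn) hsp)

theorem exists_rational_element {r : ℕ} [Fact r.Prime] [CharP F r] (hm : 2 ≤ m) {p : ℕ}
    [Fact p.Prime] (hpr : p ≠ r) (σ : F ≃+* F) (hfix : ∀ y, σ (ι y) = ι y)
    (hsur : ∀ x, σ x = x → ∃ y, ι y = x)
    (hdvd : p ∣ Nat.card (MonoidHom.eqLocus (fAut σ : MulAut (PSp m F)).toMonoidHom
      (MonoidHom.id (PSp m F)))) :
    ∃ s, ψ (m := m) ι s ≠ 1 ∧ ψ ι s ^ p = 1 := by
  have hp : p.Prime := Fact.out
  rcases hp.eq_two_or_odd' with rfl | hodd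
  · have hJ : J (Fin m) F₀ ∈ Matrix.symplecticGroup (Fin m) F₀ := SymplecticGroup.J_mem _ _
    refine ⟨⟨_, hJ⟩, fun h => ?_, ?_⟩
    · obtain ⟨a, ha⟩ := (mem_center_iff _).1 ((ψ_eq_one_iff ι (by omega) _).1 h)
      have h1 := congrFun (ha (Pi.single (Sum.inl ⟨0, by omega⟩) 1)) (Sum.inr ⟨0, by omega⟩)
      simp [J, Matrix.fromBlocks] at h1
    · rw [← map_pow, ψ_eq_one_iff ι (by omega), mem_center_iff]
      refine ⟨-1, fun w => ?_⟩
      rw [pow_two, mul_mulVec_sp, Matrix.mulVec_mulVec, J_squared, Matrix.neg_mulVec,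
        Matrix.one_mulVec, neg_one_smul]
  · obtain ⟨⟨k, hk⟩, hko⟩ := exists_prime_orderOf_dvd_card' p hdvd
    have hko' : orderOf (MulAut.conj k) = p := by
      rw [orderOf_injective _ (Count.conj_injective (by omega)), ← hko, Subgroup.orderOf_mk]
    obtain ⟨g, hg⟩ : MulAut.conj k ∈ (subAct (m := m) ι).range := by
      rw [subAct_range ι (by omega) σ hfix hsur]
      exact ⟨inn_le_range ⟨k, rfl⟩,
        (conj_mem_centralizer_iff (Count.conj_injective (by omega)) _ k).2 hk⟩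
    obtain ⟨s, hs⟩ := subAct_sq_mem ι (by omega) g
    refine ⟨s, ?_, ?_⟩
    · rw [hs, hg]
      intro h
      have h2 := orderOf_dvd_of_pow_eq_one h
      rw [hko', Nat.prime_dvd_prime_iff_eq hp Nat.prime_two] at h2
      subst h2
      exact absurd hodd (by decide)
    · rw [hs, hg, ← pow_mul, mul_comm, pow_mul]
      conv_lhs => rw [← hko', pow_orderOf_eq_one, one_pow]

/-- Local balance fails exactly in the coprime case (standard field automorphism). -/
theorem core_ne_bot_iff {r : ℕ} [Fact r.Prime] [CharP F r] (hm : 2 ≤ m) {p : ℕ} [Fact p.Prime]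
    (hpr : p ≠ r) (A : Subgroup (MulAut (PSp m F))) (hinn : ∀ k : PSp m F, MulAut.conj k ∈ A)
    (σ : F ≃+* F) (hσ : orderOf σ = p) :
    Cfsg.pPrimeCore p ↥(A ⊓ Subgroup.centralizer {(fAut σ : MulAut (PSp m F))}) ≠ ⊥ ↔
      Nat.Coprime p (Nat.card (MonoidHom.eqLocus (fAut σ : MulAut (PSp m F)).toMonoidHom
        (MonoidHom.id (PSp m F)))) := by
  classical
  set x : MulAut (PSp m F) := fAut σ with hx
  have hp : p.Prime := Fact.out
  let K : Subfield F := RingHom.eqLocusField σ.toRingHom (RingHom.id F)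
  have : Fintype K := Fintype.ofFinite _
  have hfix : ∀ y : K, σ (K.subtype y) = K.subtype y := fun y => y.2
  have hsur : ∀ z, σ z = z → ∃ y, K.subtype y = z := fun z hz => ⟨⟨z, hz⟩, rfl⟩
  have hinj := Count.conj_injective (F := F) (m := m) (by omega)
  have hψmem : ∀ s, ψ (m := m) K.subtype s ∈ A ⊓ Subgroup.centralizer {x} := fun s => by
    have h1 : ψ (m := m) K.subtype s ∈ (subAct (m := m) K.subtype).range := ⟨_, rfl⟩
    rw [subAct_range K.subtype (by omega) σ hfix hsur] at h1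
    exact ⟨ψ_eq_conj K.subtype s ▸ hinn _, h1.2⟩
  constructor
  · contrapose!
    intro hcop
    have hdvd : p ∣ Nat.card (MonoidHom.eqLocus x.toMonoidHom (MonoidHom.id (PSp m F))) :=
      not_not.1 fun h => hcop (hp.coprime_iff_not_dvd.2 h)
    have hel := exists_rational_element K.subtype hm hpr σ hfix hsur hdvd
    set H := A ⊓ Subgroup.centralizer {x}
    set D : Subgroup H := (Inn (PSp m F)).subgroupOf H
    have : (Inn (PSp m F)).Normal := inferInstance
    let f : Matrix.symplecticGroup (Fin m) K →* H := (ψ K.subtype).codRestrict H hψmem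
    refine core_eq_bot p D f.range ?_ ?_ ?_ ?_
    · rintro _ ⟨s, rfl⟩
      exact Subgroup.mem_subgroupOf.2 ⟨_, (ψ_eq_conj K.subtype s).symm⟩
    · rintro d hd _ ⟨s, rfl⟩
      obtain ⟨g, hg⟩ : (d : MulAut (PSp m F)) ∈ (subAct (m := m) K.subtype).range := by
        rw [subAct_range K.subtype (by omega) σ hfix hsur]
        exact ⟨inn_le_range (Subgroup.mem_subgroupOf.1 hd), d.2.2⟩
      refine ⟨conjSp g s, Subtype.ext ?_⟩
      change ψ K.subtype (conjSp g s) = (d : MulAut (PSp m F)) * ψ K.subtype s * (d : MulAut (PSp m F))⁻¹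
      rw [← hg, subAct_conj]
    · intro N hN hinv hcopN
      rw [← Subgroup.map_eq_bot_iff_of_injective N H.subtype_injective]
      refine invariant_coprime_eq_bot (p := p) K.subtype hm ?_ hel _ ?_ ?_
        (by rwa [Subgroup.card_map_of_injective H.subtype_injective])
      · intro _ hsmall hp2
        have : CharP K r := K.subtype.charP K.subtype.injective r
        have h2 : (2 : K) = 0 := (hsmall 2).resolve_right fun h => one_ne_zero (α := K) (by linear_combination h)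
        have h3 := (CharP.cast_eq_zero_iff K r 2).1 (by exact_mod_cast h2)
        exact hpr (hp2.trans ((Nat.prime_dvd_prime_iff_eq Fact.out Nat.prime_two).1 h3).symm)
      · rintro _ ⟨n, hn, rfl⟩
        obtain ⟨s, rfl⟩ := hN hn
        exact ⟨s, rfl⟩
      · rintro s _ ⟨n, hn, rfl⟩
        exact ⟨f s * n * (f s)⁻¹, hinv (f s) ⟨s, rfl⟩ n hn, rfl⟩
    · intro γ hγ
      obtain ⟨τ, hτ, hτfix⟩ := exists_field_of_fix (r := r) K.subtype hm (γ : MulAut (PSp m F)) (by
        intro v hv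
        have h1 := congrArg Subtype.val (hγ (f (tv v 1)) ⟨_, rfl⟩)
        change (γ : MulAut (PSp m F)) * ψ K.subtype (tv v 1) = ψ K.subtype (tv v 1) * (γ : MulAut (PSp m F)) at h1
        rw [ψ_eq_conj, conj_mul_apply] at h1
        have h2 := hinj (mul_right_cancel h1)
        have h3 : (⟨_, map_mem K.subtype (tv v 1)⟩ : Sp) = tv (fun i => K.subtype (v i)) 1 := by
          refine sp_ext fun z => ?_
          funext i
          have hmap : ((tv v (1 : K) : Matrix.symplecticGroup (Fin m) K) : Matrix I I K).map K.subtype =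
              ((tv (fun i => K.subtype (v i)) (1 : F) : Sp) : M) := by
            refine Matrix.ext_of_mulVec_single fun k => funext fun l => ?_
            rw [Matrix.mulVec_single_one, Matrix.col_apply, Matrix.map_apply]
            have e := congrFun (tv_mulVec v (Pi.single k 1) (1 : K)) l
            rw [Matrix.mulVec_single_one, Matrix.col_apply] at e
            rw [e, tv_mulVec]
            have hs : (fun i => K.subtype ((Pi.single k 1 : I → K) i)) = (Pi.single k 1 : Vec) :=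
              funext fun i => by by_cases hi : i = k <;> simp [hi]
            simp only [Pi.add_apply, Pi.smul_apply, smul_eq_mul, one_mul, map_add, map_mul]
            rw [congrFun hs l, ← hs]
            simp [sympForm_eq, map_sum]
          exact congrArg (fun Z : M => (Z *ᵥ z) i) hmap
        rwa [h3] at h2)
      have hτσ := mem_zpowers_of_fix σ τ fun z hz => hτfix ⟨z, hz⟩
      refine ⟨1, Subtype.ext ?_⟩
      obtain ⟨j, rfl⟩ := Subgroup.mem_zpowers_iff.1 hτσ
      rw [pow_one, SubmonoidClass.coe_pow, hτ, ← map_pow, ← zpow_natCast, ← _root_.zpow_mul, mul_comm,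
        _root_.zpow_mul, zpow_natCast, ← hσ, pow_orderOf_eq_one, _root_.one_zpow, map_one, OneMemClass.coe_one]
  · intro hcop
    refine core_ne_bot hinj A hinn x p ?_ hcop
    set v : I → K := Pi.single (Sum.inl ⟨0, by omega⟩) 1
    have hs : tv v (1 : K) ∉ Subgroup.center (Matrix.symplecticGroup (Fin m) K) := fun h => by
      obtain ⟨a, ha⟩ := (mem_center_iff _).1 h
      have hv : v ≠ 0 := Points.single_ne_zero _
      have h1 := ha v
      rw [tv_mulVec, sympForm_self, mul_zero, zero_smul, add_zero] at h1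
      obtain rfl : a = 1 := (smul_left_injective K hv (by simpa using h1.symm))
      obtain ⟨w, hw⟩ := exists_partner hv
      have h2 := ha w
      rw [tv_mulVec, one_smul, add_eq_left, smul_eq_zero, one_mul, sympForm_swap, hw] at h2
      simp [hv] at h2
    refine ⟨QuotientGroup.mk ⟨_, map_mem K.subtype (tv v 1)⟩, fun h => hs ?_, ?_⟩
    · rw [← ψ_eq_one_iff K.subtype (by omega), ψ_eq_conj, h, map_one]
    · have := (hψmem (tv v 1)).2
      rw [ψ_eq_conj] at this
      exact (conj_mem_centralizer_iff hinj _ _).1 this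

theorem main {r : ℕ} [Fact r.Prime] [CharP F r] (hm : 2 ≤ m) {p : ℕ} [Fact p.Prime] (hpr : p ≠ r)
    (A : Subgroup (MulAut (PSp m F))) (hinn : ∀ k : PSp m F, MulAut.conj k ∈ A)
    (x : MulAut (PSp m F)) (hord : orderOf x = p) (hnot : ¬ IsInnerDiagonalAutPSp x) :
    Cfsg.pPrimeCore p ↥(A ⊓ Subgroup.centralizer {x}) ≠ ⊥ ↔
      (IsFieldAutClassPSp x ∧ Nat.Coprime p (Nat.card
        ↥(MonoidHom.eqLocus x.toMonoidHom (MonoidHom.id (PSp m F))))) := by
  obtain ⟨B, σ, hσ, rfl⟩ := exists_field_conj hm hpr x hord hnot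
  set b : MulAut (PSp m F) := gAut B
  have hclass : IsFieldAutClassPSp (b * fAut σ * b⁻¹) := by
    refine ⟨b⁻¹, σ, fun h => ?_, (isStdFieldAutPSp_iff _ _).2 (by group)⟩
    rw [h, show RingEquiv.refl F = (1 : F ≃+* F) from rfl, orderOf_one] at hσ
    exact (Fact.out : p.Prime).one_lt.ne hσ
  rw [and_iff_right hclass]
  set c := (MulAut.conj b : MulAut (MulAut (PSp m F))).toMonoidHom
  have hc : Function.Injective c := (MulAut.conj b).injective
  set A' := A.comap c
  have hinn' : ∀ k : PSp m F, MulAut.conj k ∈ A' := fun k => by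
    change b * MulAut.conj k * b⁻¹ ∈ A
    rw [conj_mul_apply, mul_inv_cancel_right]
    exact hinn _
  have hmap : (A' ⊓ Subgroup.centralizer {(fAut σ : MulAut (PSp m F))}).map c =
      A ⊓ Subgroup.centralizer {b * fAut σ * b⁻¹} := by
    ext y
    simp only [Subgroup.mem_map, Subgroup.mem_inf, A', Subgroup.mem_comap,
      Subgroup.mem_centralizer_singleton_iff]
    constructor
    · rintro ⟨z, ⟨hz1, hz2⟩, rfl⟩
      refine ⟨hz1, ?_⟩
      change b * z * b⁻¹ * _ = _ * (b * z * b⁻¹)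
      calc _ = b * (z * fAut σ) * b⁻¹ := by group
        _ = _ := by rw [hz2]; group
    · rintro ⟨hy1, hy2⟩
      refine ⟨b⁻¹ * y * b, ⟨?_, ?_⟩, ?_⟩
      · change b * (b⁻¹ * y * b) * b⁻¹ ∈ A
        simpa [mul_assoc] using hy1
      · calc b⁻¹ * y * b * fAut σ = b⁻¹ * (y * (b * fAut σ * b⁻¹)) * b := by group
          _ = _ := by rw [hy2]; group
      · change b * (b⁻¹ * y * b) * b⁻¹ = y
        simp [mul_assoc]
  have e := ((A' ⊓ Subgroup.centralizer {(fAut σ : MulAut (PSp m F))}).equivMapOfInjective c hc).trans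
    (MulEquiv.subgroupCongr hmap)
  have hcore := PLocal.Cores.map_pPrimeCore_equiv (p := p) e
  have hcard : Nat.card (MonoidHom.eqLocus (b * fAut σ * b⁻¹).toMonoidHom (MonoidHom.id (PSp m F))) =
      Nat.card (MonoidHom.eqLocus (fAut σ : MulAut (PSp m F)).toMonoidHom (MonoidHom.id (PSp m F))) := by
    refine Nat.card_congr (Equiv.subtypeEquiv b.symm.toEquiv fun k => ?_)
    change b (fAut σ (b.symm k)) = k ↔ fAut σ (b.symm k) = b.symm k
    exact b.eq_symm_apply.symm
  rw [hcard, ← hcore, Ne, Subgroup.map_eq_bot_iff_of_injective _ e.injective]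
  exact core_ne_bot_iff hm hpr A' hinn' σ hσ

end Cfsg.Agent.AutPSp.LocalBalance
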