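import Cfsg.Prelude.Def_LieTypeDatum
import Cfsg.Agent.Lib.Classical.Symplectic

/-!
# Automorphisms of `PSp_{2m}(F)` induced by similitudes and field automorphisms

`gAut g` is conjugation by a similitude, `fAut σ` the entrywise field automorphism and `rootX v`
the transvection subgroup of a vector.
-/

set_option autoImplicit false

namespace Cfsg.Agent.AutPSp.Basic

open Matrix Cfsg.Agent.Forms.SympStd Cfsg.Agent.Classical.Symplectic

universe u

variable {F : Type u} [Field F] {m : ℕ}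

local notation "I" => (Fin m ⊕ Fin m)
local notation "M" => Matrix (Fin m ⊕ Fin m) (Fin m ⊕ Fin m) F
local notation "Vec" => (Fin m ⊕ Fin m → F)
local notation "Sp" => Matrix.symplecticGroup (Fin m) F
local notation "sf" => Cfsg.sympForm m F

/-- `v'` is a non-zero multiple of `v`. -/
def Par (v v' : Vec) : Prop := ∃ c : F, c ≠ 0 ∧ v' = c • v

theorem Par.refl (v : Vec) : Par v v := ⟨1, one_ne_zero, (one_smul F v).symm⟩

theorem Par.symm {v v' : Vec} (h : Par v v') : Par v' v := by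
  obtain ⟨c, hc, rfl⟩ := h
  exact ⟨c⁻¹, inv_ne_zero hc, (inv_smul_smul₀ hc v).symm⟩

theorem Par.trans {a b c : Vec} (h : Par a b) (h' : Par b c) : Par a c := by
  obtain ⟨x, hx, rfl⟩ := h
  obtain ⟨y, hy, rfl⟩ := h'
  exact ⟨y * x, mul_ne_zero hy hx, smul_smul y x a⟩

theorem Par.perp_iff {v v' : Vec} (h : Par v v') (y : Vec) : sf v' y = 0 ↔ sf v y = 0 := by
  obtain ⟨c, hc, rfl⟩ := h
  rw [f_smul_left, mul_eq_zero, or_iff_right hc]

theorem Par.perp_iff_right {v v' : Vec} (h : Par v v') (y : Vec) : sf y v' = 0 ↔ sf y v = 0 := by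
  obtain ⟨c, hc, rfl⟩ := h
  rw [f_smul_right, mul_eq_zero, or_iff_right hc]

/-- A non-zero vector orthogonal to all of `x^⊥` is a multiple of `x`. -/
theorem par_of_perp {x x' : Vec} (hx : x ≠ 0) (hx' : x' ≠ 0)
    (h : ∀ y, sf x y = 0 → sf x' y = 0) : Par x x' := by
  obtain ⟨y₁, hy₁⟩ := exists_partner hx
  set c := sf x' y₁
  have hsub : ∀ u v w : Vec, sf u (v - w) = sf u v - sf u w := fun u v w => by
    have := f_add_right u (v - w) w
    rw [sub_add_cancel] at this
    rw [this, add_sub_cancel_right]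
  have hall : ∀ y, sf x' y = c * sf x y := fun y => by
    have h1 := h (y - sf x y • y₁) (by rw [hsub, f_smul_right, hy₁, mul_one, sub_self])
    rw [hsub, f_smul_right, sub_eq_zero] at h1
    rw [h1, mul_comm]
  have he : x' = c • x := by
    have h2 : ∀ y, sf (x' - c • x) y = 0 := fun y => by
      have := f_add_left (x' - c • x) (c • x) y
      rw [sub_add_cancel, hall, f_smul_left, right_eq_add] at this
      exact this
    by_contra hne
    obtain ⟨w, hw⟩ := exists_partner (sub_ne_zero.2 hne)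
    rw [h2] at hw
    exact zero_ne_one hw
  exact ⟨c, fun h0 => hx' (by rw [he, h0, zero_smul]), he⟩

theorem mk_eq_mk_iff (A B : Sp) :
    (QuotientGroup.mk A : PSp m F) = QuotientGroup.mk B ↔
      ∃ a : F, ∀ v : Vec, (B : M) *ᵥ v = a • ((A : M) *ᵥ v) := by
  rw [QuotientGroup.eq, mem_center_iff]
  constructor
  · rintro ⟨a, ha⟩
    refine ⟨a, fun v => ?_⟩
    have h := congrArg ((A : M) *ᵥ ·) (ha v)
    simpa only [← mul_mulVec_sp, mul_inv_cancel_left, Matrix.mulVec_smul] using h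
  · rintro ⟨a, ha⟩
    refine ⟨a, fun v => ?_⟩
    rw [mul_mulVec_sp, ha, Matrix.mulVec_smul, inv_mulVec_of_eq rfl]

theorem mk_eq_mk_of_fixes (A B : Sp) (h : ∀ v : Vec, v ≠ 0 → Par ((A : M) *ᵥ v) ((B : M) *ᵥ v)) :
    (QuotientGroup.mk A : PSp m F) = QuotientGroup.mk B := by
  rw [QuotientGroup.eq, mem_center_iff]
  refine eq_scalar_of_fixes_lines _ fun v => ?_
  by_cases hv : v = 0
  · exact ⟨0, by simp [hv]⟩
  obtain ⟨c, -, hc⟩ := h v hv
  exact ⟨c, by rw [mul_mulVec_sp, hc, Matrix.mulVec_smul, inv_mulVec_of_eq rfl]⟩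

/-- The automorphism of `PSp` induced by one of `Sp`. -/
def descend : MulAut Sp →* MulAut (PSp m F) where
  toFun e := QuotientGroup.congr _ _ e
    (Subgroup.characteristic_iff_map_eq.1 inferInstance e)
  map_one' := by
    ext x
    induction x using QuotientGroup.induction_on
    rfl
  map_mul' e e' := by
    ext x
    induction x using QuotientGroup.induction_on
    rfl

theorem gsp_inv_conj (g : GSp m F) (s : Sp) :
    ((g : GL I F) : M) * (s : M) * (((g : GL I F)⁻¹ : GL I F) : M) ∈ Matrix.symplecticGroup (Fin m) F := by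
  obtain ⟨c, hc⟩ := g.2
  refine mem_sp_iff.2 fun u v => ?_
  set u' := (((g : GL I F)⁻¹ : GL I F) : M) *ᵥ u
  set v' := (((g : GL I F)⁻¹ : GL I F) : M) *ᵥ v
  have hu : ((g : GL I F) : M) *ᵥ u' = u := by
    rw [Matrix.mulVec_mulVec, Units.mul_inv, Matrix.one_mulVec]
  have hv : ((g : GL I F) : M) *ᵥ v' = v := by
    rw [Matrix.mulVec_mulVec, Units.mul_inv, Matrix.one_mulVec]
  rw [← Matrix.mulVec_mulVec, ← Matrix.mulVec_mulVec, ← Matrix.mulVec_mulVec, ← Matrix.mulVec_mulVec,
    hc, sympForm_mulVec, ← hc, hu, hv]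

/-- Conjugation by a similitude, on `Sp`. -/
def conjSp : GSp m F →* MulAut Sp where
  toFun g :=
    { toFun := fun s => ⟨_, gsp_inv_conj g s⟩
      invFun := fun s => ⟨_, gsp_inv_conj g⁻¹ s⟩
      left_inv := fun s => Subtype.ext (by
        simp only [Subgroup.coe_inv, inv_inv, ← mul_assoc, Units.inv_mul, one_mul]
        simp only [mul_assoc, Units.inv_mul, mul_one])
      right_inv := fun s => Subtype.ext (by
        simp only [Subgroup.coe_inv, inv_inv, ← mul_assoc, Units.mul_inv, one_mul]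
        simp only [mul_assoc, Units.mul_inv, mul_one])
      map_mul' := fun a b => Subtype.ext (by
        change _ = _ * _
        simp only [Submonoid.coe_mul, ← mul_assoc]
        simp only [mul_assoc _ (((g : GL I F)⁻¹ : GL I F) : M) ((g : GL I F) : M), Units.inv_mul,
          mul_one]) }
  map_one' := by ext s : 2; simp
  map_mul' g h := by
    ext s : 2
    simp [_root_.mul_inv_rev, mul_assoc]

theorem conjSp_coe (g : GSp m F) (s : Sp) :
    ((conjSp g s : Sp) : M) =
      ((g : GL I F) : M) * (s : M) * (((g : GL I F)⁻¹ : GL I F) : M) := rfl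

theorem sympForm_map (σ : F ≃+* F) (u v : Vec) :
    sf (fun i => σ (u i)) (fun i => σ (v i)) = σ (sf u v) := by
  simp [sympForm_eq, map_sum, map_sub, map_mul]

theorem map_mulVec_field (σ : F ≃+* F) (A : M) (v : Vec) :
    A.map σ *ᵥ (fun i => σ (v i)) = fun i => σ ((A *ᵥ v) i) :=
  funext fun i => (RingHom.map_mulVec σ.toRingHom A v i).symm

theorem field_mem (σ : F ≃+* F) (s : Sp) : (s : M).map σ ∈ Matrix.symplecticGroup (Fin m) F := by
  refine mem_sp_iff.2 fun u v => ?_
  obtain ⟨u', rfl⟩ : ∃ u' : Vec, (fun i => σ (u' i)) = u := ⟨fun i => σ.symm (u i), by simp⟩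
  obtain ⟨v', rfl⟩ : ∃ v' : Vec, (fun i => σ (v' i)) = v := ⟨fun i => σ.symm (v i), by simp⟩
  rw [map_mulVec_field, map_mulVec_field, sympForm_map, sympForm_map, sympForm_mulVec]

/-- A field automorphism applied entrywise, on `Sp`. -/
def fieldSp : (F ≃+* F) →* MulAut Sp where
  toFun σ :=
    { toFun := fun s => ⟨_, field_mem σ s⟩
      invFun := fun s => ⟨_, field_mem σ.symm s⟩
      left_inv := fun s => Subtype.ext (Matrix.ext fun i j => σ.symm_apply_apply _)
      right_inv := fun s => Subtype.ext (Matrix.ext fun i j => σ.apply_symm_apply _)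
      map_mul' := fun a b => Subtype.ext Matrix.map_mul }
  map_one' := MulEquiv.ext fun _ => Subtype.ext (Matrix.ext fun _ _ => rfl)
  map_mul' _ _ := MulEquiv.ext fun _ => Subtype.ext (Matrix.ext fun _ _ => rfl)

theorem fieldSp_coe (σ : F ≃+* F) (s : Sp) : ((fieldSp σ s : Sp) : M) = (s : M).map σ := rfl

/-- Conjugation by a similitude, on `PSp`. -/
def gAut : GSp m F →* MulAut (PSp m F) := descend.comp conjSp

/-- A field automorphism applied entrywise, on `PSp`. -/
def fAut : (F ≃+* F) →* MulAut (PSp m F) := descend.comp fieldSp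

theorem gAut_mk (g : GSp m F) (s : Sp) :
    gAut g (QuotientGroup.mk s) = QuotientGroup.mk (conjSp g s) := rfl

theorem fAut_mk (σ : F ≃+* F) (s : Sp) :
    fAut σ (QuotientGroup.mk s : PSp m F) = QuotientGroup.mk (fieldSp σ s) := rfl

theorem isInducedBySemilinearPSp_iff (g : GSp m F) (σ : F ≃+* F) (β : MulAut (PSp m F)) :
    IsInducedBySemilinearPSp (g : GL I F) σ β ↔ β = gAut g * fAut σ := by
  constructor
  · intro h
    refine MulEquiv.ext fun x => ?_
    induction x using QuotientGroup.induction_on with | H s => ?_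
    exact h s (conjSp g (fieldSp σ s)) rfl
  · rintro rfl s s' h
    exact congrArg QuotientGroup.mk (Subtype.ext h.symm : conjSp g (fieldSp σ s) = s')

theorem isStdFieldAutPSp_iff (σ : F ≃+* F) (β : MulAut (PSp m F)) :
    IsStdFieldAutPSp σ β ↔ β = fAut σ := by
  constructor
  · intro h
    refine MulEquiv.ext fun x => ?_
    induction x using QuotientGroup.induction_on with | H s => ?_
    exact h s (fieldSp σ s) rfl
  · rintro rfl s s' h
    exact congrArg QuotientGroup.mk (Subtype.ext h.symm : fieldSp σ s = s')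

theorem isInnerDiagonalAutPSp_iff (β : MulAut (PSp m F)) :
    IsInnerDiagonalAutPSp β ↔ ∃ g : GSp m F, β = gAut g := by
  have h1 : ∀ g : GSp m F, (gAut g : MulAut (PSp m F)) = gAut g * fAut (RingEquiv.refl F) := fun g => by
    rw [show (RingEquiv.refl F) = (1 : F ≃+* F) from rfl, map_one, mul_one]
  constructor
  · rintro ⟨g, hg, h⟩
    exact ⟨⟨g, hg⟩, ((isInducedBySemilinearPSp_iff ⟨g, hg⟩ _ _).1 h).trans (h1 _).symm⟩
  · rintro ⟨g, rfl⟩
    exact ⟨g, g.2, (isInducedBySemilinearPSp_iff g _ _).2 (h1 g)⟩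

theorem inndiagPSp_eq : inndiagPSp m F = (gAut (m := m) (F := F)).range := by
  refine le_antisymm ((Subgroup.closure_le _).2 fun β hβ => ?_) ?_
  · obtain ⟨g, rfl⟩ := (isInnerDiagonalAutPSp_iff β).1 hβ
    exact ⟨g, rfl⟩
  · rintro _ ⟨g, rfl⟩
    exact Subgroup.subset_closure ((isInnerDiagonalAutPSp_iff _).2 ⟨g, rfl⟩)

/-- The inclusion of `Sp` in the similitude group. -/
def toGSp : Sp →* GSp m F where
  toFun s := ⟨(⟨(s : M), ((s⁻¹ : Sp) : M), congrArg Subtype.val (mul_inv_cancel s),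
      congrArg Subtype.val (inv_mul_cancel s)⟩ : GL I F),
    1, fun u v => by rw [Units.val_one, one_mul]; exact sympForm_mulVec s u v⟩
  map_one' := Subtype.ext (Units.ext rfl)
  map_mul' _ _ := Subtype.ext (Units.ext rfl)

theorem toGSp_coe (s : Sp) : (((toGSp s : GSp m F) : GL I F) : M) = (s : M) := rfl

theorem toGSp_inv_coe (s : Sp) :
    ((((toGSp s : GSp m F) : GL I F)⁻¹ : GL I F) : M) = ((s⁻¹ : Sp) : M) := by
  rw [← Subgroup.coe_inv, ← map_inv, toGSp_coe]

theorem conj_mk_eq_gAut (s : Sp) :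
    MulAut.conj (QuotientGroup.mk s : PSp m F) = gAut (toGSp s) := by
  refine MulEquiv.ext fun x => ?_
  induction x using QuotientGroup.induction_on with | H t => ?_
  refine congrArg QuotientGroup.mk (Subtype.ext ?_)
  change ((s * t * s⁻¹ : Sp) : M) = ((toGSp s : GSp m F) : GL I F).val * (t : M) *
    (((toGSp s : GSp m F) : GL I F)⁻¹ : GL I F).val
  rfl

/-- `c ↦ t_{v,c}` in `PSp`. -/
def xHom (v : Vec) : Multiplicative F →* PSp m F :=
  MonoidHom.mk' (fun c => QuotientGroup.mk (tv v c.toAdd)) fun a b => by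
    rw [toAdd_mul, ← tv_mul, QuotientGroup.mk_mul]

/-- The transvection subgroup of `v`. -/
def rootX (v : Vec) : Subgroup (PSp m F) := (xHom v).range

theorem mem_rootX {v : Vec} {x : PSp m F} : x ∈ rootX v ↔ ∃ c : F, QuotientGroup.mk (tv v c) = x :=
  ⟨fun ⟨c, hc⟩ => ⟨c.toAdd, hc⟩, fun ⟨c, hc⟩ => ⟨Multiplicative.ofAdd c, hc⟩⟩

theorem rootX_par {v w : Vec} (h : Par v w) : rootX w = rootX v := by
  obtain ⟨a, ha, rfl⟩ := h
  ext x
  rw [mem_rootX, mem_rootX]
  constructor
  · rintro ⟨c, rfl⟩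
    exact ⟨a * a * c, by rw [tv_smul]⟩
  · rintro ⟨c, rfl⟩
    exact ⟨c / (a * a), by rw [tv_smul, mul_div_cancel₀ _ (mul_ne_zero ha ha)]⟩

theorem mulVec_tv {g : M} {c : F} (hg : ∀ u v, sf (g *ᵥ u) (g *ᵥ v) = c * sf u v) (hc : c ≠ 0)
    (v x : Vec) (a : F) :
    g *ᵥ ((tv v a : Sp) : M) *ᵥ x = ((tv (g *ᵥ v) (a / c) : Sp) : M) *ᵥ (g *ᵥ x) := by
  rw [tv_mulVec, tv_mulVec, Matrix.mulVec_add, Matrix.mulVec_smul, hg]
  congr 2
  field_simp

theorem gAut_tv (g : GSp m F) :
    ∃ c : F, c ≠ 0 ∧ ∀ (v : Vec) (a : F), gAut g (QuotientGroup.mk (tv v a)) =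
      QuotientGroup.mk (tv (((g : GL I F) : M) *ᵥ v) (a / c)) := by
  obtain ⟨c, hc⟩ := g.2
  refine ⟨c, c.ne_zero, fun v a => congrArg QuotientGroup.mk (sp_ext fun x => ?_)⟩
  change (((g : GL I F) : M) * ((tv v a : Sp) : M) * (((g : GL I F)⁻¹ : GL I F) : M)) *ᵥ x = _
  rw [← Matrix.mulVec_mulVec, ← Matrix.mulVec_mulVec, mulVec_tv hc c.ne_zero,
    Matrix.mulVec_mulVec _ ((g : GL I F) : M), Units.mul_inv, Matrix.one_mulVec]

theorem map_rootX_gAut (g : GSp m F) (v : Vec) :
    (rootX v).map (gAut g).toMonoidHom = rootX (((g : GL I F) : M) *ᵥ v) := by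
  obtain ⟨c, hc0, hc⟩ := gAut_tv g
  ext x
  rw [mem_rootX]
  constructor
  · rintro ⟨y, hy, rfl⟩
    obtain ⟨a, rfl⟩ := mem_rootX.1 hy
    exact ⟨a / c, (hc v a).symm⟩
  · rintro ⟨a, rfl⟩
    exact ⟨_, mem_rootX.2 ⟨a * c, rfl⟩, (hc v (a * c)).trans (by rw [mul_div_cancel_right₀ _ hc0])⟩

theorem fAut_tv (σ : F ≃+* F) (v : Vec) (a : F) :
    fAut σ (QuotientGroup.mk (tv v a) : PSp m F) =
      QuotientGroup.mk (tv (fun i => σ (v i)) (σ a)) := by
  refine congrArg QuotientGroup.mk (sp_ext fun x => ?_)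
  obtain ⟨x, rfl⟩ : ∃ x' : Vec, (fun i => σ (x' i)) = x := ⟨fun i => σ.symm (x i), by simp⟩
  change ((tv v a : Sp) : M).map σ *ᵥ (fun i => σ (x i)) = _
  rw [map_mulVec_field, tv_mulVec, tv_mulVec, sympForm_map]
  funext i
  simp [Pi.smul_apply]

theorem map_rootX_fAut (σ : F ≃+* F) (v : Vec) :
    (rootX v).map (fAut σ).toMonoidHom = rootX (fun i => σ (v i)) := by
  ext x
  rw [mem_rootX]
  constructor
  · rintro ⟨y, hy, rfl⟩
    obtain ⟨a, rfl⟩ := mem_rootX.1 hy
    exact ⟨σ a, (fAut_tv σ v a).symm⟩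
  · rintro ⟨a, rfl⟩
    exact ⟨_, mem_rootX.2 ⟨σ.symm a, rfl⟩, (fAut_tv σ v _).trans (by rw [σ.apply_symm_apply])⟩

theorem map_rootX_conj (s : Sp) (v : Vec) :
    (rootX v).map (MulAut.conj (QuotientGroup.mk s : PSp m F)).toMonoidHom = rootX ((s : M) *ᵥ v) := by
  rw [conj_mk_eq_gAut, map_rootX_gAut, toGSp_coe]

/-- Transvection groups commute elementwise exactly for orthogonal vectors. -/
theorem commute_rootX_iff {v w : Vec} (hv : v ≠ 0) :
    (∀ x ∈ rootX (m := m) v, ∀ y ∈ rootX (m := m) w, x * y = y * x) ↔ sf v w = 0 := by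
  constructor
  · intro h
    by_contra hne
    have h1 := h _ (mem_rootX.2 ⟨1, rfl⟩) _ (mem_rootX.2 ⟨1, rfl⟩)
    rw [← QuotientGroup.mk_mul, ← QuotientGroup.mk_mul] at h1
    obtain ⟨a, ha⟩ := (mk_eq_mk_iff _ _).1 h1
    have h2 := ha v
    simp only [mul_mulVec_sp, tv_mulVec, sympForm_self, f_add_left, f_smul_left, one_mul, mul_zero,
      zero_smul, add_zero, zero_add] at h2
    have h3 := congrArg (sf v) h2
    simp only [f_add_right, f_smul_right, sympForm_self, mul_zero, zero_add, add_zero] at h3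
    have ha1 : a = 1 := by
      have h4 : (sf v w * sf v w) * (a - 1) = 0 := by linear_combination -h3
      rcases mul_eq_zero.1 h4 with h5 | h5
      · exact absurd (mul_self_eq_zero.1 h5) hne
      · exact sub_eq_zero.1 h5
    rw [ha1, one_smul, left_eq_add] at h2
    have h5 := (smul_eq_zero.1 h2).resolve_right hv
    rw [sympForm_swap v w] at h5
    exact hne (mul_self_eq_zero.1 (by linear_combination -h5))
  · intro h x hx y hy
    obtain ⟨a, rfl⟩ := mem_rootX.1 hx
    obtain ⟨b, rfl⟩ := mem_rootX.1 hy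
    have hcomm : tv v a * tv w b = tv w b * tv v a := by
      refine sp_ext fun x => ?_
      have h' : sf w v = 0 := by rw [sympForm_swap, h, neg_zero]
      simp only [mul_mulVec_sp, tv_mulVec, f_add_left, f_smul_left, h, h', mul_zero, add_zero]
      module
    rw [← QuotientGroup.mk_mul, hcomm, QuotientGroup.mk_mul]

theorem rootX_eq_iff {v w : Vec} (hv : v ≠ 0) (hw : w ≠ 0) :
    rootX (m := m) v = rootX w ↔ Par v w := by
  refine ⟨fun h => par_of_perp hv hw fun y hy => ?_, fun h => (rootX_par h).symm⟩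
  rw [← commute_rootX_iff hw, ← h]
  exact (commute_rootX_iff hv).2 hy

end Cfsg.Agent.AutPSp.Basic
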