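import Cfsg.Agent.Lib.AutPSp.Main
import Cfsg.Agent.Lib.AutPSL.Speiser
import Cfsg.Agent.Lib.Forms.Bases

/-!
# Conjugacy of field automorphisms of prime order of `PSp_{2m}(F)`
-/

set_option autoImplicit false

namespace Cfsg.Agent.AutPSp.Conj

open Matrix Cfsg.Agent.Forms.SympStd Cfsg.Agent.Classical.Symplectic Cfsg.Agent.AutPSp.Basic
  Cfsg.Agent.AutPSp.Main

universe u

variable {F : Type u} [Field F] {m : ℕ}

local notation "I" => (Fin m ⊕ Fin m)
local notation "M" => Matrix (Fin m ⊕ Fin m) (Fin m ⊕ Fin m) F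
local notation "Vec" => (Fin m ⊕ Fin m → F)
local notation "sf" => Cfsg.sympForm m F

/-- A non-zero scalar as a similitude. -/
def scG : Fˣ →* GSp m F :=
  (Units.map (Matrix.scalar I : F →+* M).toMonoidHom).codRestrict (GSp m F) fun a => by
    refine ⟨a * a, fun u v => ?_⟩
    have h : ∀ w : Vec, (Matrix.scalar I (a : F)) *ᵥ w = (a : F) • w := fun w => funext fun i => by
      simp [Matrix.mulVec_diagonal]
    change sf (Matrix.scalar I (a : F) *ᵥ u) (Matrix.scalar I (a : F) *ᵥ v) = _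
    rw [h, h, f_smul_left, f_smul_right, Units.val_mul, mul_assoc]

theorem scG_mulVec (a : Fˣ) (v : Vec) :
    (((scG a : GSp m F) : GL I F) : M) *ᵥ v = (a : F) • v := funext fun i => by
  change (Matrix.scalar I (a : F) *ᵥ v) i = _
  simp [Matrix.mulVec_diagonal]

theorem gsp_ext {g h : GSp m F}
    (e : ∀ v : Vec, ((g : GL I F) : M) *ᵥ v = ((h : GL I F) : M) *ᵥ v) : g = h :=
  Subtype.ext (Units.ext (Matrix.ext_iff_mulVec.2 e))

theorem gsp_mul_mulVec (g h : GSp m F) (v : Vec) :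
    (((g * h : GSp m F) : GL I F) : M) *ᵥ v = ((g : GL I F) : M) *ᵥ (((h : GL I F) : M) *ᵥ v) :=
  (Matrix.mulVec_mulVec _ _ _).symm

theorem scG_comm (a : Fˣ) (g : GSp m F) : scG a * g = g * scG a := gsp_ext fun v => by
  rw [gsp_mul_mulVec, gsp_mul_mulVec, scG_mulVec, scG_mulVec, Matrix.mulVec_smul]

theorem scG_injective (hm : 1 ≤ m) : Function.Injective (scG (F := F) (m := m)) := fun a b h => by
  refine Units.ext ?_
  have h1 := congrArg (fun g : GSp m F => (((g : GL I F) : M) *ᵥ Pi.single (Sum.inl ⟨0, hm⟩) 1) (Sum.inl ⟨0, hm⟩)) h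
  simp only [scG_mulVec, Pi.smul_apply, Pi.single_eq_same, smul_eq_mul, mul_one] at h1
  exact h1

theorem gAut_eq_one_iff' (hm : 1 ≤ m) (g : GSp m F) :
    (gAut g : MulAut (PSp m F)) = 1 ↔ ∃ a : Fˣ, g = scG a := by
  rw [gAut_eq_one_iff hm]
  exact exists_congr fun a => ⟨fun h => gsp_ext fun v => by rw [h, scG_mulVec],
    fun h v => by rw [h, scG_mulVec]⟩

theorem gAut_scG (hm : 1 ≤ m) (a : Fˣ) : (gAut (scG a) : MulAut (PSp m F)) = 1 :=
  (gAut_eq_one_iff' hm _).2 ⟨a, rfl⟩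

theorem fieldGSp_scG (σ : F ≃+* F) (a : Fˣ) :
    fieldGSp σ (scG a : GSp m F) = scG (Units.map σ.toRingHom.toMonoidHom a) :=
  Subtype.ext (Units.ext (by
    change ((Matrix.scalar I (a : F)).map σ) = Matrix.scalar I (σ (a : F))
    rw [Matrix.scalar_apply, Matrix.scalar_apply, Matrix.diagonal_map (map_zero σ)]))

theorem fieldGSp_mul (σ τ : F ≃+* F) (g : GSp m F) :
    fieldGSp (σ * τ) g = fieldGSp σ (fieldGSp τ g) :=
  Subtype.ext (Units.ext (Matrix.ext fun _ _ => rfl))

theorem fieldGSp_one (g : GSp m F) : fieldGSp 1 g = g :=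
  Subtype.ext (Units.ext (Matrix.ext fun _ _ => rfl))

/-- `A σ(A) … σ^{i-1}(A)`. -/
def twistG (σ : F ≃+* F) (A : GSp m F) : ℕ → GSp m F
  | 0 => 1
  | i + 1 => A * fieldGSp σ (twistG σ A i)

theorem twistG_succ' (σ : F ≃+* F) (A : GSp m F) :
    ∀ i, twistG σ A (i + 1) = twistG σ A i * fieldGSp (σ ^ i) A
  | 0 => by simp [twistG, fieldGSp_one]
  | i + 1 => by
    show A * fieldGSp σ (twistG σ A (i + 1)) = A * fieldGSp σ (twistG σ A i) * fieldGSp (σ ^ (i + 1)) A
    rw [twistG_succ' σ A i, map_mul, pow_succ', fieldGSp_mul, mul_assoc]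

theorem pow_gAut_fAut (σ : F ≃+* F) (A : GSp m F) :
    ∀ i, (gAut A * fAut σ : MulAut (PSp m F)) ^ i = gAut (twistG σ A i) * fAut (σ ^ i)
  | 0 => by simp [twistG]
  | i + 1 => by
    rw [pow_succ', pow_gAut_fAut σ A i, twistG, map_mul, pow_succ', map_mul, mul_assoc, mul_assoc,
      ← mul_assoc (fAut σ), fAut_mul_gAut, mul_assoc]

theorem twistG_sc_mul (σ : F ≃+* F) (a : Fˣ) (A : GSp m F) :
    ∀ i, ∃ b : Fˣ, twistG σ (scG a * A) i = scG b * twistG σ A i ∧
      (b : F) = ∏ j ∈ Finset.range i, (σ ^ j) (a : F)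
  | 0 => ⟨1, by simp [twistG]⟩
  | i + 1 => by
    obtain ⟨b, h1, h2⟩ := twistG_sc_mul σ a A i
    refine ⟨a * Units.map σ.toRingHom.toMonoidHom b, ?_, ?_⟩
    · rw [twistG, twistG, h1, map_mul (fieldGSp σ), fieldGSp_scG, map_mul scG]
      simp only [mul_assoc]
      rw [← mul_assoc A, ← scG_comm _ A, mul_assoc]
    · rw [Finset.prod_range_succ', Units.val_mul, mul_comm, pow_zero]
      change σ (b : F) * _ = _
      rw [h2, map_prod]
      congr 1
      exact Finset.prod_congr rfl fun j _ => by rw [pow_succ']; rfl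

variable [Fintype F]

/-- Speiser's theorem inside the similitude group. -/
theorem speiserG (hm : 1 ≤ m) (σ : F ≃+* F) (A : GSp m F) (hA : twistG σ A (orderOf σ) = 1) :
    ∃ B : GSp m F, A = B * (fieldGSp σ B)⁻¹ := by
  classical
  let e : I ≃ Fin (m + m) := finSumFinEquiv
  let Φ : GL I F ≃* GL (Fin (m + m)) F := Units.mapEquiv (Matrix.reindexAlgEquiv F F e).toMulEquiv
  have hΦ : ∀ g : GSp m F, AutPSL.Main.fieldGL σ (Φ g) = Φ (fieldGSp σ g) := fun g =>
    Units.ext (Matrix.ext fun _ _ => rfl)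
  have htw : ∀ i, AutPSL.Speiser.twist σ (Φ A) i = Φ (twistG σ A i) := fun i => by
    induction i with
    | zero => exact (map_one Φ).symm
    | succ i ih => rw [AutPSL.Speiser.twist, twistG, ih, hΦ, Subgroup.coe_mul, map_mul]
  obtain ⟨B', hB'⟩ := AutPSL.Speiser.speiser σ (Φ A) (by rw [htw, hA, Subgroup.coe_one, map_one])
  set B := Φ.symm B' with hBdef
  have hB : (A : GL I F) * Units.map (RingHom.mapMatrix (m := I) σ.toRingHom).toMonoidHom B = B := by
    refine Φ.injective ?_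
    rw [map_mul, show Φ (Units.map (RingHom.mapMatrix (m := I) σ.toRingHom).toMonoidHom B) =
      AutPSL.Main.fieldGL σ (Φ B) from Units.ext (Matrix.ext fun i j => rfl), hBdef, Φ.apply_symm_apply]
    exact eq_mul_inv_iff_mul_eq.1 hB'
  obtain ⟨μ, hμ⟩ := A.2
  -- the form pulled back by `B`
  let φ : Vec → Vec → F := fun u v => sf ((B : M) *ᵥ u) ((B : M) *ᵥ v)
  have hφσ : ∀ k l : I, φ (Pi.single k 1) (Pi.single l 1) =
      (μ : F) * σ (φ (Pi.single k 1) (Pi.single l 1)) := by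
    intro k l
    have hs : ∀ k : I, (fun i => σ ((Pi.single k 1 : Vec) i)) = Pi.single k 1 := fun k => funext fun i => by
      by_cases hi : i = k <;> simp [hi]
    have h1 : ∀ v : Vec, (B : M) *ᵥ v = ((A : GL I F) : M) *ᵥ (((B : M).map σ) *ᵥ v) := fun v => by
      conv_lhs => rw [← hB]
      rw [Units.val_mul, ← Matrix.mulVec_mulVec]
      rfl
    simp only [φ]
    rw [← sympForm_map, ← map_mulVec_field, ← map_mulVec_field, hs, hs]
    conv_lhs => rw [h1, h1, hμ]
  have hBne : ∀ v : Vec, v ≠ 0 → (B : M) *ᵥ v ≠ 0 := fun v => gl_mulVec_ne_zero B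
  obtain ⟨w, hw0, hwσ⟩ : ∃ w : F, w ≠ 0 ∧ w = (μ : F) * σ w := by
    by_contra hall
    push Not at hall
    set e0 : I := Sum.inl ⟨0, hm⟩
    obtain ⟨y, hy⟩ := exists_partner (hBne _ (Points.single_ne_zero e0))
    have hyB : y = (B : M) *ᵥ (((B⁻¹ : GL I F) : M) *ᵥ y) := by
      rw [Matrix.mulVec_mulVec, Units.mul_inv, Matrix.one_mulVec]
    set x := ((B⁻¹ : GL I F) : M) *ᵥ y
    have h0 : ∀ l, φ (Pi.single e0 1) (Pi.single l 1) = 0 := fun l => by
      by_contra hne
      exact hall _ hne (hφσ e0 l)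
    have hlin : ∀ z : Vec, φ (Pi.single e0 1) z = 0 := by
      let L : Vec →ₗ[F] F :=
        (sympB m F ((B : M) *ᵥ Pi.single e0 1)).comp (Matrix.toLin' (B : M))
      have hL : ∀ z, L z = φ (Pi.single e0 1) z := fun z => by
        simp [L, φ, sympB_apply]
      have : L = 0 := LinearMap.pi_ext' fun l => LinearMap.ext_ring (by
        simpa [hL] using h0 l)
      intro z
      rw [← hL, this, LinearMap.zero_apply]
    exact zero_ne_one ((hlin x).symm.trans (by rw [show φ (Pi.single e0 1) x =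
      sf ((B : M) *ᵥ Pi.single e0 1) ((B : M) *ᵥ x) from rfl, ← hyB, hy]))
  let K : Subfield F := RingHom.eqLocusField σ.toRingHom (RingHom.id F)
  have hGK : ∀ k l : I, φ (Pi.single k 1) (Pi.single l 1) / w ∈ K := fun k l => by
    change σ (φ (Pi.single k 1) (Pi.single l 1) / w) = φ (Pi.single k 1) (Pi.single l 1) / w
    conv_rhs => rw [hφσ k l, hwσ, mul_div_mul_left _ _ μ.ne_zero]
    exact map_div₀ σ _ _
  let G : Matrix I I K := Matrix.of fun k l => ⟨_, hGK k l⟩
  have hGmap : G.map K.subtype = w⁻¹ • ((B : M)ᵀ * J (Fin m) F * (B : M)) := by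
    ext k l
    rw [Matrix.smul_apply, smul_eq_mul, Matrix.mul_assoc]
    simp only [G, Matrix.map_apply, Matrix.of_apply, Subfield.coe_subtype, φ]
    rw [div_eq_inv_mul]
    congr 1
    rw [Cfsg.sympForm, Matrix.mulVec_single_one, Matrix.mulVec_single_one]
    simp [Matrix.mul_apply, Matrix.mulVec, dotProduct]
  have hval : ∀ u v : I → K, ((Matrix.toBilin' G u v : K) : F) =
      w⁻¹ * φ (fun i => (u i : F)) (fun i => (v i : F)) := by
    intro u v
    rw [Matrix.toBilin'_apply']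
    have h1 : K.subtype (u ⬝ᵥ G *ᵥ v) =
        (fun i => (u i : F)) ⬝ᵥ (G.map K.subtype *ᵥ fun i => (v i : F)) := by
      rw [RingHom.map_dotProduct]
      congr 1
      funext i
      exact RingHom.map_mulVec K.subtype G v i
    change K.subtype _ = _
    rw [h1, hGmap, Matrix.smul_mulVec, dotProduct_smul, smul_eq_mul]
    congr 1
    change _ = ((B : M) *ᵥ fun i => (u i : F)) ⬝ᵥ (J (Fin m) F *ᵥ ((B : M) *ᵥ fun i => (v i : F)))
    rw [← Matrix.mulVec_mulVec, ← Matrix.mulVec_mulVec, Matrix.dotProduct_mulVec, Matrix.vecMul_transpose]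
  have halt : (Matrix.toBilin' G).IsAlt := fun v => Subtype.ext (by
    rw [hval]; simp [φ, sympForm_self])
  have hnd : (Matrix.toBilin' G).Nondegenerate := by
    rw [LinearMap.BilinForm.nondegenerate_toBilin'_iff_det_ne_zero]
    intro h0
    have h1 := congrArg K.subtype h0
    rw [RingHom.map_det, RingHom.mapMatrix_apply, hGmap, map_zero, Matrix.det_smul, Matrix.det_mul,
      Matrix.det_mul, Matrix.det_transpose] at h1
    simp only [mul_eq_zero, pow_eq_zero_iff', inv_eq_zero, hw0, (isUnit_det_J (Fin m) F).ne_zero,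
      false_and, or_false, false_or, or_self] at h1
    exact (Matrix.GeneralLinearGroup.det B).ne_zero (by simpa using h1)
  obtain ⟨b, hb1, hb2, hb3⟩ := Forms.Bases.exists_sympBasis (Matrix.toBilin' G) halt hnd
    (m := m) (by simp; ring)
  let C : M := Matrix.of fun r k => ((b k.swap r : K) : F)
  have hCσ : C.map σ = C := Matrix.ext fun r k => (b k.swap r).2
  have hC : ∀ k : I, C *ᵥ Pi.single k 1 = fun r => ((b k.swap r : K) : F) := fun k => funext fun r => by
    simp [C]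
  have hBC : ∀ u v : Vec, sf (((B : M) * C) *ᵥ u) (((B : M) * C) *ᵥ v) = w * sf u v := by
    have key : ((sympB m F).compl₁₂ (Matrix.toLin' ((B : M) * C)) (Matrix.toLin' ((B : M) * C))) =
        w • sympB m F := by
      refine LinearMap.ext_basis (Pi.basisFun F I) (Pi.basisFun F I) fun k l => ?_
      simp only [LinearMap.compl₁₂_apply, Pi.basisFun_apply, Matrix.toLin'_apply, sympB_apply,
        LinearMap.smul_apply, smul_eq_mul]
      rw [← Matrix.mulVec_mulVec, ← Matrix.mulVec_mulVec, hC, hC]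
      have h1 := hval (b k.swap) (b l.swap)
      rw [eq_comm, inv_mul_eq_iff_eq_mul₀ hw0] at h1
      change φ (fun r => ((b k.swap r : K) : F)) (fun r => ((b l.swap r : K) : F)) = _
      rw [h1]
      congr 1
      rcases k with i | i <;> rcases l with j | j <;> simp only [Sum.swap_inl, Sum.swap_inr]
      · rw [hb3, sympForm_inl_inl]; rfl
      · have h2 : Matrix.toBilin' G (b (Sum.inr i)) (b (Sum.inl j)) =
            -Matrix.toBilin' G (b (Sum.inl j)) (b (Sum.inr i)) := (LinearMap.IsAlt.neg halt _ _).symm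
        rw [h2, hb1, sympForm_inl_inr]
        by_cases h : i = j
        · subst h; simp
        · simp [h, Ne.symm h]
      · rw [hb1, sympForm_inr_inl]
        by_cases h : i = j <;> simp [h]
      · rw [hb2, sympForm_inr_inr]; rfl
    intro u v
    have := LinearMap.congr_fun₂ key u v
    simpa [sympB_apply] using this
  have hdet : ((B : M) * C).det ≠ 0 := fun h0 => by
    obtain ⟨v, hv, h1⟩ := (Matrix.exists_mulVec_eq_zero_iff).2 h0
    obtain ⟨y, hy⟩ := exists_partner hv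
    have h2 := hBC v y
    rw [h1, hy, mul_one, show (0 : Vec) = (0 : F) • v by simp, f_smul_left, zero_mul] at h2
    exact hw0 h2.symm
  refine ⟨⟨Matrix.GeneralLinearGroup.mkOfDetNeZero _ hdet, Units.mk0 w hw0, hBC⟩,
    eq_mul_inv_of_mul_eq (Subtype.ext (Units.ext ?_))⟩
  change ((A : GL I F) : M) * ((B : M) * C).map σ = (B : M) * C
  rw [Matrix.map_mul, hCσ, ← mul_assoc]
  congr 1
  conv_rhs => rw [← hB]
  rfl

theorem exists_decomp_field (hm : 1 ≤ m) (σ : F ≃+* F) {r : ℕ} (hσ : orderOf σ = r)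
    (A : GSp m F) (h : (gAut A * fAut σ : MulAut (PSp m F)) ^ r = 1) :
    ∃ B : GSp m F, (gAut A * fAut σ : MulAut (PSp m F)) = gAut B * fAut σ * (gAut B)⁻¹ := by
  rw [pow_gAut_fAut] at h
  obtain ⟨-, a, ha⟩ := mul_field_eq_one hm h
  have hc : twistG σ A r = scG a := gsp_ext fun v => by rw [ha, scG_mulVec]
  have hfix : σ (a : F) = a := by
    have h1 := twistG_succ' σ A r
    rw [twistG, hc, fieldGSp_scG, ← hσ, pow_orderOf_eq_one, fieldGSp_one, scG_comm a A] at h1
    exact congrArg Units.val (scG_injective hm (mul_left_cancel h1))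
  obtain ⟨l, hl⟩ := AutPSL.Speiser.nrm_surjective σ a hfix
  obtain ⟨b, hb1, hb2⟩ := twistG_sc_mul σ l⁻¹ A r
  have hb : b = a⁻¹ := by
    refine Units.ext ?_
    rw [hb2, Units.val_inv_eq_inv_val a, ← hl, AutPSL.Speiser.nrm, hσ, ← Finset.prod_inv_distrib]
    exact Finset.prod_congr rfl fun j _ => by simp
  obtain ⟨B, hB⟩ := speiserG hm σ (scG l⁻¹ * A) (by rw [hσ, hb1, hb, hc, ← map_mul, inv_mul_cancel, map_one])
  refine ⟨B, ?_⟩
  have h2 : (gAut A : MulAut (PSp m F)) = gAut B * gAut (fieldGSp σ B⁻¹) := by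
    rw [← map_mul, map_inv, ← hB, map_mul, gAut_scG hm, one_mul]
  rw [h2, ← map_inv, mul_assoc, ← fAut_mul_gAut, mul_assoc]

theorem field_order (hm : 1 ≤ m) {σ : F ≃+* F} {r : ℕ}
    (h : orderOf (fAut σ : MulAut (PSp m F)) = r) : orderOf σ = r := by
  rw [← h, orderOf_injective _ (fAut_injective hm)]

theorem orderOf_iff_isConjUnder (hm : 2 ≤ m) (x δ : MulAut (PSp m F)) (hx : IsFieldAutClassPSp x)
    {r : ℕ} (hxr : orderOf x = r) (hδ : δ ∈ inndiagPSp m F) :
    orderOf (δ * x) = r ↔ IsConjUnder (inndiagPSp m F) x (δ * x) := by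
  have horder : ∀ a y : MulAut (PSp m F), orderOf (a * y * a⁻¹) = orderOf y :=
    fun a y => (MulAut.conj a).orderOf_eq y
  constructor
  swap
  · rintro ⟨h, -, e⟩
    rw [e, horder, hxr]
  intro hor
  have hnor := range_normal (F := F) hm
  rw [inndiagPSp_eq] at hδ ⊢
  obtain ⟨α, σ, -, hφ⟩ := hx
  have hφ' := (isStdFieldAutPSp_iff _ _).1 hφ
  obtain ⟨A, hA⟩ := hnor.conj_mem δ hδ α
  have hA' : α * (δ * x) * α⁻¹ = gAut A * fAut σ := by rw [← hφ', hA]; group
  rw [← horder α, hφ'] at hxr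
  rw [← horder α, hA'] at hor
  obtain ⟨B, hB⟩ := exists_decomp_field (by omega) σ (field_order (by omega) hxr) A
    (by rw [← hor, pow_orderOf_eq_one])
  refine ⟨α⁻¹ * gAut B * α, by simpa using hnor.conj_mem _ ⟨B, rfl⟩ α⁻¹, ?_⟩
  calc δ * x = α⁻¹ * (α * (δ * x) * α⁻¹) * α := by group
    _ = α⁻¹ * (gAut B * (α * x * α⁻¹) * (gAut B)⁻¹) * α := by rw [hA', hB, hφ']
    _ = _ := by group

end Cfsg.Agent.AutPSp.Conj
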