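import Cfsg.Agent.Lib.AutPSp.SylowCentre
import Cfsg.Prelude.Def_KGroupFacts

/-!
# The automorphism group of `PSp_{2m}(F)`

For `m ≥ 3`, or `m = 2` in odd characteristic, every automorphism is `gAut g * fAut σ`.
-/

set_option autoImplicit false

namespace Cfsg.Agent.AutPSp.Main

open Matrix Cfsg.Agent.Forms.SympStd Cfsg.Agent.Classical.Symplectic Cfsg.Agent.AutPSp.Basic
  Cfsg.Agent.AutPSp.Points Cfsg.Agent.AutPSp.SylowCentre

universe u

variable {F : Type u} [Field F] {m : ℕ}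

local notation "I" => (Fin m ⊕ Fin m)
local notation "M" => Matrix (Fin m ⊕ Fin m) (Fin m ⊕ Fin m) F
local notation "Vec" => (Fin m ⊕ Fin m → F)
local notation "Sp" => Matrix.symplecticGroup (Fin m) F
local notation "sf" => Cfsg.sympForm m F

/-- A field automorphism applied to the entries of a similitude. -/
def fieldGSp (σ : F ≃+* F) : GSp m F →* GSp m F :=
  ((Units.map (RingHom.mapMatrix (m := Fin m ⊕ Fin m) σ.toRingHom).toMonoidHom).comp
    (GSp m F).subtype).codRestrict (GSp m F) fun g => by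
    obtain ⟨c, hc⟩ := g.2
    refine ⟨Units.map σ.toRingHom.toMonoidHom c, fun u v => ?_⟩
    obtain ⟨u', rfl⟩ : ∃ u' : Vec, (fun i => σ (u' i)) = u := ⟨fun i => σ.symm (u i), by simp⟩
    obtain ⟨v', rfl⟩ : ∃ v' : Vec, (fun i => σ (v' i)) = v := ⟨fun i => σ.symm (v i), by simp⟩
    change sf (((g : GL I F) : M).map σ *ᵥ _) (((g : GL I F) : M).map σ *ᵥ _) = σ (c : F) * _
    rw [map_mulVec_field, map_mulVec_field, sympForm_map, sympForm_map, hc, map_mul]

theorem fieldGSp_coe (σ : F ≃+* F) (g : GSp m F) :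
    (((fieldGSp σ g : GSp m F) : GL I F) : M) = ((g : GL I F) : M).map σ := rfl

theorem fAut_mul_gAut (σ : F ≃+* F) (g : GSp m F) :
    (fAut σ : MulAut (PSp m F)) * gAut g = gAut (fieldGSp σ g) * fAut σ := by
  refine MulEquiv.ext fun x => ?_
  induction x using QuotientGroup.induction_on with | H s => ?_
  refine congrArg QuotientGroup.mk (Subtype.ext ?_)
  change ((((g : GL I F) : M) * (s : M) * (((g : GL I F)⁻¹ : GL I F) : M))).map σ =
    ((g : GL I F) : M).map σ * (s : M).map σ * ((((fieldGSp σ g : GSp m F) : GL I F)⁻¹ : GL I F) : M)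
  rw [Matrix.map_mul, Matrix.map_mul]
  rfl

theorem map_rootX_decomp (g : GSp m F) (σ : F ≃+* F) (v : Vec) :
    (rootX v).map (gAut g * fAut σ : MulAut (PSp m F)).toMonoidHom =
      rootX (((g : GL I F) : M) *ᵥ fun i => σ (v i)) := by
  rw [← map_rootX_gAut, ← map_rootX_fAut, Subgroup.map_map]
  rfl

theorem gl_mulVec_ne_zero (g : GL I F) {v : Vec} (hv : v ≠ 0) : (g : M) *ᵥ v ≠ 0 := fun h => hv (by
  have := congrArg (((g⁻¹ : GL I F) : M) *ᵥ ·) h
  simpa [Matrix.mulVec_mulVec] using this)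

theorem field_vec_ne_zero (σ : F ≃+* F) {v : Vec} (hv : v ≠ 0) : (fun i => σ (v i)) ≠ (0 : Vec) :=
  fun h => hv (funext fun i => by simpa using congrFun h i)

/-- The only `gAut g * fAut σ` equal to one have `σ = 1` and `g` scalar. -/
theorem mul_field_eq_one (hm : 1 ≤ m) {g : GSp m F} {σ : F ≃+* F}
    (h : (gAut g * fAut σ : MulAut (PSp m F)) = 1) :
    σ = 1 ∧ ∃ a : Fˣ, ∀ v : Vec, ((g : GL I F) : M) *ᵥ v = (a : F) • v := by
  have key : ∀ v : Vec, v ≠ 0 → Par v (((g : GL I F) : M) *ᵥ fun i => σ (v i)) := fun v hv => by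
    have h1 := map_rootX_decomp g σ v
    rw [h] at h1
    refine (rootX_eq_iff hv (gl_mulVec_ne_zero _ (field_vec_ne_zero σ hv))).1 ?_
    rw [← h1]
    exact (Subgroup.map_id _).symm
  set e : I := Sum.inr ⟨0, hm⟩ with he
  set f : I := Sum.inl ⟨0, hm⟩ with hf
  have hef : e ≠ f := by simp [he, hf]
  have hs : ∀ k : I, (fun i => σ ((Pi.single k 1 : Vec) i)) = Pi.single k 1 := fun k => funext fun i => by
    by_cases hi : i = k <;> simp [hi]
  obtain ⟨a, ha0, ha⟩ := key _ (single_ne_zero e)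
  obtain ⟨b, hb0, hb⟩ := key _ (single_ne_zero f)
  rw [hs] at ha hb
  have hline : ∀ t : F, ∃ c : F, a = c ∧ σ t * b = c * t := by
    intro t
    have hne : (Pi.single e 1 + t • Pi.single f 1 : Vec) ≠ 0 := fun h0 => by
      simpa [hef] using congrFun h0 e
    obtain ⟨c, -, hc⟩ := key _ hne
    have h2 : (fun i => σ ((Pi.single e 1 + t • Pi.single f 1 : Vec) i)) =
        Pi.single e 1 + σ t • Pi.single f 1 := funext fun i => by
      have h1 := congrFun (hs e) i
      have h2 := congrFun (hs f) i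
      simp only [Pi.add_apply, Pi.smul_apply, smul_eq_mul, map_add, map_mul]
      rw [h1, h2]
    rw [h2, Matrix.mulVec_add, Matrix.mulVec_smul, ha, hb] at hc
    refine ⟨c, ?_, ?_⟩
    · simpa [hef, hef.symm] using congrFun hc e
    · simpa [hef, hef.symm] using congrFun hc f
  have hab : a = b := by
    obtain ⟨c, h1, h2⟩ := hline 1
    rw [map_one, one_mul, mul_one] at h2
    rw [h1, h2]
  have hσ : σ = 1 := RingEquiv.ext fun t => by
    obtain ⟨c, h1, h2⟩ := hline t
    rw [← h1, hab, mul_comm] at h2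
    exact mul_left_cancel₀ hb0 h2
  refine ⟨hσ, Units.mk0 a ha0, ?_⟩
  subst hσ
  have hall : ∀ v : Vec, ∃ c : F, ((g : GL I F) : M) *ᵥ v = c • v := fun v => by
    by_cases hv : v = 0
    · exact ⟨0, by simp [hv]⟩
    · obtain ⟨c, -, hc⟩ := key v hv
      exact ⟨c, hc⟩
  obtain ⟨c, hc⟩ := (Matrix.toLin' ((g : GL I F) : M)).exists_eq_smul_id_of_forall_notLinearIndependent
    fun v => by
      rw [Matrix.toLin'_apply]
      obtain ⟨c, hc⟩ := hall v
      rw [hc]
      by_cases hv : v = 0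
      · intro hli; exact hli.ne_zero 0 (by simpa using hv)
      · intro hli
        rw [LinearIndependent.pair_iff' hv] at hli
        exact hli c rfl
  have hc' : ∀ v : Vec, ((g : GL I F) : M) *ᵥ v = c • v := fun v => by
    have := LinearMap.congr_fun hc v
    simpa using this
  have hca : c = a := by
    have := (hc' _).symm.trans ha
    simpa using congrFun this e
  intro v
  rw [hc', hca]
  rfl

theorem gAut_eq_one_iff (hm : 1 ≤ m) (g : GSp m F) :
    (gAut g : MulAut (PSp m F)) = 1 ↔ ∃ a : Fˣ, ∀ v : Vec, ((g : GL I F) : M) *ᵥ v = (a : F) • v := by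
  constructor
  · intro h
    exact (mul_field_eq_one hm (σ := 1) (by rw [map_one, mul_one, h])).2
  · rintro ⟨a, ha⟩
    refine MulEquiv.ext fun x => ?_
    induction x using QuotientGroup.induction_on with | H s => ?_
    refine congrArg QuotientGroup.mk (sp_ext fun v => ?_)
    change (((g : GL I F) : M) * (s : M) * (((g : GL I F)⁻¹ : GL I F) : M)) *ᵥ v = (s : M) *ᵥ v
    rw [← Matrix.mulVec_mulVec, ← Matrix.mulVec_mulVec, ha, ← Matrix.mulVec_smul, ← ha,
      Matrix.mulVec_mulVec _ ((g : GL I F) : M), Units.mul_inv, Matrix.one_mulVec]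

theorem fAut_injective (hm : 1 ≤ m) : Function.Injective (fAut (m := m) (F := F)) :=
  (injective_iff_map_eq_one _).2 fun σ h =>
    (mul_field_eq_one hm (g := 1) (σ := σ) (by rw [map_one, one_mul, h])).1

variable [Finite F]

theorem exists_decomp_of_root (hm : 2 ≤ m) (β : MulAut (PSp m F))
    (hroot : ∀ v : Vec, v ≠ 0 → ∃ w : Vec, w ≠ 0 ∧ (rootX v).map β.toMonoidHom = rootX w) :
    ∃ (g : GSp m F) (σ : F ≃+* F), β = gAut g * fAut σ := by
  classical
  have hex : ∀ v : Vec, ∃ w : Vec, v ≠ 0 → w ≠ 0 ∧ (rootX v).map β.toMonoidHom = rootX w := fun v => by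
    by_cases hv : v = 0
    · exact ⟨0, fun h => absurd hv h⟩
    · obtain ⟨w, hw, h⟩ := hroot v hv
      exact ⟨w, fun _ => ⟨hw, h⟩⟩
  choose π hπ using hex
  have hperp : Perp π := by
    refine ⟨fun v hv => (hπ v hv).1, fun v w hv hw => ?_⟩
    rw [← commute_rootX_iff hv, ← commute_rootX_iff (hπ v hv).1, ← (hπ v hv).2, ← (hπ w hw).2]
    constructor
    · intro h x hx y hy
      exact β.injective (by
        rw [map_mul, map_mul]
        exact h _ ⟨x, hx, rfl⟩ _ ⟨y, hy, rfl⟩)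
    · rintro h _ ⟨x, hx, rfl⟩ _ ⟨y, hy, rfl⟩
      change β x * β y = β y * β x
      rw [← map_mul, ← map_mul, h x hx y hy]
  obtain ⟨A, hA⟩ := exists_frame hperp
  have hAne : ∀ v : Vec, v ≠ 0 → ((A⁻¹ : Sp) : M) *ᵥ v ≠ 0 := fun v hv h => hv (by
    have := congrArg ((A : M) *ᵥ ·) h
    simp only [← mul_mulVec_sp, mul_inv_cancel, OneMemClass.coe_one, Matrix.one_mulVec,
      Matrix.mulVec_zero] at this
    exact this)
  set π' : Vec → Vec := fun v => ((A⁻¹ : Sp) : M) *ᵥ π v
  have hperp' : Perp π' :=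
    ⟨fun v hv => hAne _ (hperp.1 v hv), fun v w hv hw => by
      simp only [π', sympForm_mulVec]; exact hperp.2 v w hv hw⟩
  have hfix : ∀ k : I, Par (Pi.single k 1) (π' (Pi.single k 1)) := fun k => by
    obtain ⟨c, hc, h⟩ := hA k
    exact ⟨c, hc, by simp only [π', h, Matrix.mulVec_smul, inv_mulVec_of_eq rfl]⟩
  obtain ⟨g, σ, hg⟩ := exists_semilinear hm hperp' hfix
  refine ⟨toGSp A * g, σ, ?_⟩
  set δ : MulAut (PSp m F) := gAut (toGSp A * g) * fAut σ with hδ
  have hroot : ∀ v : Vec, v ≠ 0 → (rootX v).map δ.toMonoidHom = (rootX v).map β.toMonoidHom := fun v hv => by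
    rw [(hπ v hv).2, hδ, map_rootX_decomp]
    refine (rootX_par ?_).symm
    obtain ⟨c, hc, h⟩ := hg v hv
    refine ⟨c, hc, ?_⟩
    have h1 := congrArg ((A : M) *ᵥ ·) h
    simp only [π', ← mul_mulVec_sp, mul_inv_cancel, OneMemClass.coe_one, Matrix.one_mulVec,
      Matrix.mulVec_smul] at h1
    rw [h1, Matrix.mulVec_mulVec]
    rfl
  refine MulEquiv.ext fun x => ?_
  induction x using QuotientGroup.induction_on with | H s => ?_
  obtain ⟨s', hs'⟩ := QuotientGroup.mk_surjective (δ⁻¹ (β (QuotientGroup.mk s : PSp m F)))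
  suffices h : (QuotientGroup.mk s' : PSp m F) = QuotientGroup.mk s by
    rw [h] at hs'
    exact ((congrArg δ hs').trans (MulAut.apply_inv_self (PSp m F) δ _)).symm
  refine mk_eq_mk_of_fixes _ _ fun v hv => ?_
  have hne : ∀ t : Sp, (t : M) *ᵥ v ≠ 0 := fun t h0 => hv (by
    have := congrArg (((t⁻¹ : Sp) : M) *ᵥ ·) h0
    simp only [← mul_mulVec_sp, inv_mul_cancel, OneMemClass.coe_one, Matrix.one_mulVec,
      Matrix.mulVec_zero] at this
    exact this)
  refine (rootX_eq_iff (hne s') (hne s)).1 ?_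
  have hγ : ∀ w : Vec, w ≠ 0 → (rootX w).map (δ⁻¹ * β).toMonoidHom = rootX w := fun w hw => by
    rw [show (δ⁻¹ * β).toMonoidHom = δ⁻¹.toMonoidHom.comp β.toMonoidHom from rfl, ← Subgroup.map_map,
      ← hroot w hw, Subgroup.map_map]
    exact (congrArg (fun φ => (rootX w).map φ) (MonoidHom.ext fun y =>
      MulAut.inv_apply_self (PSp m F) δ y)).trans (Subgroup.map_id _)
  have hcomp : (δ⁻¹ * β).toMonoidHom.comp (MulAut.conj (QuotientGroup.mk s : PSp m F)).toMonoidHom =
      (MulAut.conj (QuotientGroup.mk s' : PSp m F)).toMonoidHom.comp (δ⁻¹ * β).toMonoidHom := by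
    refine MonoidHom.ext fun y => ?_
    change (δ⁻¹ * β) (QuotientGroup.mk s * y * (QuotientGroup.mk s)⁻¹) =
      (QuotientGroup.mk s' : PSp m F) * (δ⁻¹ * β) y * (QuotientGroup.mk s')⁻¹
    rw [map_mul, map_mul, map_inv, hs', MulAut.mul_apply]
  rw [← map_rootX_conj, ← map_rootX_conj, ← hγ v hv, Subgroup.map_map, ← hcomp, ← Subgroup.map_map,
    hγ v hv, map_rootX_conj, hγ _ (hne s)]

theorem exists_decomp (p : ℕ) [Fact p.Prime] [CharP F p] (hm : 2 ≤ m) (hchar : p = 2 → 3 ≤ m)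
    (β : MulAut (PSp m F)) : ∃ (g : GSp m F) (σ : F ≃+* F), β = gAut g * fAut σ :=
  exists_decomp_of_root hm β fun _ hv => map_rootX p hm hchar β hv

/-- In characteristic two every similitude induces an inner automorphism. -/
theorem range_eq_inn [CharP F 2] :
    (gAut (m := m) (F := F)).range = Inn (PSp m F) := by
  refine le_antisymm ?_ ?_
  · rintro _ ⟨g, rfl⟩
    obtain ⟨c, hc⟩ := g.2
    obtain ⟨t, ht⟩ := FiniteField.isSquare_of_char_two (F := F) (ringChar.eq F 2) (c : F)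
    have ht0 : t ≠ 0 := fun h => c.ne_zero (by rw [ht, h, mul_zero])
    have hmem : t⁻¹ • ((g : GL I F) : M) ∈ Matrix.symplecticGroup (Fin m) F := by
      refine mem_sp_iff.2 fun u v => ?_
      rw [Matrix.smul_mulVec, Matrix.smul_mulVec, f_smul_left, f_smul_right, hc, ht]
      field_simp
    refine ⟨QuotientGroup.mk ⟨_, hmem⟩, ?_⟩
    rw [conj_mk_eq_gAut]
    refine MulEquiv.ext fun x => ?_
    induction x using QuotientGroup.induction_on with | H s => ?_
    refine congrArg QuotientGroup.mk (Subtype.ext ?_)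
    set B := toGSp (m := m) (F := F) ⟨_, hmem⟩
    change ((B : GSp m F) : GL I F).val * (s : M) * (((B : GSp m F) : GL I F)⁻¹ : GL I F).val =
      ((g : GL I F) : M) * (s : M) * (((g : GL I F)⁻¹ : GL I F) : M)
    refine (Units.eq_mul_inv_iff_mul_eq _).2 ?_
    have hB : (((B : GSp m F) : GL I F) : M) = t⁻¹ • ((g : GL I F) : M) := rfl
    have hg : ((g : GL I F) : M) = t • (((B : GSp m F) : GL I F) : M) := by
      rw [hB, smul_smul, mul_inv_cancel₀ ht0, one_smul]
    rw [hg, Matrix.mul_smul, Matrix.smul_mul, mul_assoc, Units.inv_mul, mul_one]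
  · rintro _ ⟨y, rfl⟩
    induction y using QuotientGroup.induction_on with | H s => ?_
    exact ⟨_, (conj_mk_eq_gAut s).symm⟩

theorem range_normal (hm : 2 ≤ m) : (gAut (m := m) (F := F)).range.Normal := by
  obtain ⟨p, hp⟩ := CharP.exists F
  have : Fact p.Prime := ⟨(CharP.char_is_prime_or_zero F p).resolve_right (CharP.char_ne_zero_of_finite F p)⟩
  by_cases hchar : p = 2 → 3 ≤ m
  · refine ⟨fun x hx β => ?_⟩
    obtain ⟨h, rfl⟩ := hx
    obtain ⟨g, σ, rfl⟩ := exists_decomp p hm hchar β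
    refine ⟨g * fieldGSp σ h * g⁻¹, ?_⟩
    have key : (fAut σ : MulAut (PSp m F)) * gAut h * (fAut σ)⁻¹ = gAut (fieldGSp σ h) := by
      rw [fAut_mul_gAut, mul_inv_cancel_right]
    rw [map_mul, map_mul, map_inv, ← key]
    group
  · obtain ⟨rfl, -⟩ := Classical.not_imp.1 hchar
    rw [range_eq_inn]
    infer_instance

end Cfsg.Agent.AutPSp.Main
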