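import Cfsg.Agent.Lib.AutPSp.Basic

/-!
# The fundamental theorem for the symplectic polar space

A map of non-zero vectors that preserves and reflects orthogonality is, up to scalars, a
semilinear similitude.
-/

set_option autoImplicit false

namespace Cfsg.Agent.AutPSp.Points

open Matrix Cfsg.Agent.Forms.SympStd Cfsg.Agent.Classical.Symplectic Cfsg.Agent.AutPSp.Basic

universe u

variable {F : Type u} [Field F] {m : ℕ}

local notation "I" => (Fin m ⊕ Fin m)
local notation "M" => Matrix (Fin m ⊕ Fin m) (Fin m ⊕ Fin m) F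
local notation "Vec" => (Fin m ⊕ Fin m → F)
local notation "Sp" => Matrix.symplecticGroup (Fin m) F
local notation "sf" => Cfsg.sympForm m F

/-- The vector with `f(x, dualVec k) = x k`. -/
def dualVec : I → Vec
  | Sum.inr i => Pi.single (Sum.inl i) 1
  | Sum.inl i => -Pi.single (Sum.inr i) 1

theorem form_dualVec (x : Vec) (k : I) : sf x (dualVec k) = x k := by
  rcases k with i | i <;> simp [dualVec, sympForm_eq, Pi.single_apply]

theorem form_single_right (x : Vec) (k : I) :
    sf x (Pi.single k 1) = 0 ↔ x k.swap = 0 := by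
  rcases k with i | i <;> simp [sympForm_eq, Pi.single_apply]

theorem single_ne_zero (k : I) : (Pi.single k 1 : Vec) ≠ 0 := fun h => by
  simpa using congrFun h k

theorem dualVec_ne_zero (k : I) : (dualVec k : Vec) ≠ 0 := by
  rcases k with i | i
  · exact neg_ne_zero.2 (single_ne_zero _)
  · exact single_ne_zero _

theorem dualVec_apply (k l : I) : (dualVec k : Vec) l ≠ 0 ↔ l = k.swap := by
  rcases k with i | i <;> rcases l with j | j <;> simp [dualVec, Pi.single_apply]

/-- `π` preserves and reflects orthogonality. -/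
def Perp (π : Vec → Vec) : Prop :=
  (∀ v, v ≠ 0 → π v ≠ 0) ∧ ∀ v w, v ≠ 0 → w ≠ 0 → (sf (π v) (π w) = 0 ↔ sf v w = 0)

theorem Perp.par {π : Vec → Vec} (hπ : Perp π) {v w : Vec} (hv : v ≠ 0) (hw : w ≠ 0)
    (h : Par (π v) (π w)) : Par v w :=
  par_of_perp hv hw fun y hy => by
    by_cases hy0 : y = 0
    · rw [hy0, show (0 : Vec) = (0 : F) • v by simp, f_smul_right, zero_mul]
    · exact (hπ.2 _ _ hw hy0).1 ((h.perp_iff _).2 ((hπ.2 _ _ hv hy0).2 hy))

theorem exists_frame {π : Vec → Vec} (hπ : Perp π) :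
    ∃ A : Sp, ∀ k : I, Par ((A : M) *ᵥ Pi.single k 1) (π (Pi.single k 1)) := by
  classical
  set u : Fin m → Vec := fun i => π (Pi.single (Sum.inr i) 1)
  set w : Fin m → Vec := fun i => π (Pi.single (Sum.inl i) 1)
  have hp := fun k l : I => hπ.2 _ _ (single_ne_zero (F := F) k) (single_ne_zero l)
  have huu : ∀ i j, sf (u i) (u j) = 0 := fun i j => (hp _ _).2 (sympForm_inr_inr _ _)
  have hww : ∀ i j, sf (w i) (w j) = 0 := fun i j => (hp _ _).2 (sympForm_inl_inl _ _)
  have huw : ∀ i j, sf (u i) (w j) = 0 ↔ i ≠ j := fun i j => by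
    rw [hp, sympForm_inr_inl]
    split_ifs with h <;> simp [h]
  set col : I → Vec := Sum.elim (fun i => (sf (u i) (w i))⁻¹ • w i) u with hcol
  let A : M := Matrix.of fun r k => col k r
  have hd : ∀ i, sf (u i) (w i) ≠ 0 := fun i h => (huw i i).1 h rfl
  have hA : A ∈ Matrix.symplecticGroup (Fin m) F := by
    rw [SymplecticGroup.mem_iff']
    ext k l
    have : (Aᵀ * J (Fin m) F * A) k l = sf (col k) (col l) := by
      rw [Cfsg.sympForm, Matrix.mul_assoc]
      simp [Matrix.mul_apply, Matrix.mulVec, dotProduct, A]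
    rw [this, hcol]
    rcases k with i | i <;> rcases l with j | j
    · simp [f_smul_left, f_smul_right, hww, J]
    · simp only [Sum.elim_inl, Sum.elim_inr, f_smul_left]
      rw [sympForm_swap (u j) (w i)]
      by_cases h : i = j
      · subst h; simp [J, hd i]
      · simp [J, (huw j i).2 (Ne.symm h), h]
    · simp only [Sum.elim_inl, Sum.elim_inr, f_smul_right]
      by_cases h : i = j
      · subst h; simp [J, hd i]
      · simp [J, (huw i j).2 h, h]
    · simp [huu, J]
  refine ⟨⟨A, hA⟩, fun k => ?_⟩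
  have : A *ᵥ Pi.single k 1 = col k := funext fun r => by simp [A]
  rw [show ((⟨A, hA⟩ : Sp) : M) = A from rfl, this, hcol]
  rcases k with i | i
  · exact ⟨sf (u i) (w i), hd i, by simp [w, smul_smul, hd i]⟩
  · exact ⟨1, one_ne_zero, by simp [u]⟩

variable [Finite F]

theorem exists_semilinear (hm : 2 ≤ m) {π : Vec → Vec} (hπ : Perp π)
    (hfix : ∀ k : I, Par (Pi.single k 1) (π (Pi.single k 1))) :
    ∃ (g : GSp m F) (σ : F ≃+* F), ∀ x : Vec, x ≠ 0 →
      Par (((g : GL I F) : M) *ᵥ fun i => σ (x i)) (π x) := by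
  classical
  set e0 : I := Sum.inr ⟨0, by omega⟩ with he0
  set f0 : I := Sum.inl ⟨0, by omega⟩ with hf0
  have hsupp : ∀ x, x ≠ 0 → ∀ k : I, π x k = 0 ↔ x k = 0 := fun x hx k => by
    have h1 := hπ.2 x (Pi.single k.swap 1) hx (single_ne_zero _)
    rw [(hfix k.swap).perp_iff_right, form_single_right, form_single_right, Sum.swap_swap] at h1
    exact h1
  -- images of the test vectors
  have hq : ∀ k, k ≠ e0 → ∀ c : F, (dualVec k - c • dualVec e0 : Vec) ≠ 0 := fun k hk c h => by
    have h1 := congrFun h k.swap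
    have h2 : (dualVec e0 : Vec) k.swap = 0 := by
      by_contra h3
      exact hk (Sum.swap_leftInverse.injective ((dualVec_apply e0 k.swap).1 h3))
    rw [Pi.sub_apply, Pi.smul_apply, h2, smul_zero, sub_zero] at h1
    exact (dualVec_apply k _).2 rfl h1
  have hex : ∀ (k : I) (c : F), ∃ d : F, k ≠ e0 → ∃ a : F, a ≠ 0 ∧
      π (dualVec k - c • dualVec e0 : Vec) = a • (dualVec k - d • dualVec e0 : Vec) := by
    intro k c
    by_cases hk : k = e0
    · exact ⟨0, fun h => absurd hk h⟩
    set y : Vec := dualVec k - c • dualVec e0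
    have hy := hq k hk c
    have hks : (dualVec k : Vec) k.swap ≠ 0 := (dualVec_apply k _).2 rfl
    have h0s : (dualVec e0 : Vec) e0.swap ≠ 0 := (dualVec_apply e0 _).2 rfl
    have hk0 : (dualVec e0 : Vec) k.swap = 0 := by
      by_contra h3
      exact hk (Sum.swap_leftInverse.injective ((dualVec_apply e0 k.swap).1 h3))
    have h0k : (dualVec k : Vec) e0.swap = 0 := by
      by_contra h3
      exact hk (Sum.swap_leftInverse.injective ((dualVec_apply k e0.swap).1 h3)).symm
    have hπk : π y k.swap ≠ 0 := fun h => by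
      have := (hsupp y hy k.swap).1 h
      simp [y, hk0, hks] at this
    have ha : π y k.swap / (dualVec k : Vec) k.swap ≠ 0 := div_ne_zero hπk hks
    refine ⟨-(π y e0.swap / (dualVec e0 : Vec) e0.swap) / (π y k.swap / (dualVec k : Vec) k.swap),
      fun _ => ⟨_, ha, ?_⟩⟩
    funext l
    simp only [Pi.smul_apply, Pi.sub_apply, smul_eq_mul]
    by_cases hl : l = k.swap
    · subst hl
      rw [hk0]
      field_simp
      ring
    · by_cases hl0 : l = e0.swap
      · subst hl0
        rw [h0k]
        field_simp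
        ring
      · have h1 : (dualVec k : Vec) l = 0 := by
          by_contra h; exact hl ((dualVec_apply k l).1 h)
        have h2 : (dualVec e0 : Vec) l = 0 := by
          by_contra h; exact hl0 ((dualVec_apply e0 l).1 h)
        rw [h1, h2, (hsupp y hy l).2 (by simp [y, h1, h2])]
        ring
  choose FF hFF using hex
  -- coordinates of the image
  have hcoord' : ∀ x : Vec, x e0 ≠ 0 → ∀ k, k ≠ e0 → π x k = FF k (x k / x e0) * π x e0 := by
    intro x hx k hk
    have hx0 : x ≠ 0 := fun h => by simp [h] at hx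
    obtain ⟨a, ha, he⟩ := hFF k (x k / x e0) hk
    have hsub : ∀ (z : Vec) (c : F), sf z (dualVec k - c • dualVec e0) = z k - c * z e0 := by
      intro z c
      rw [sub_eq_add_neg, ← neg_smul, f_add_right, f_smul_right, form_dualVec, form_dualVec]
      ring
    have h1 := (hπ.2 x _ hx0 (hq k hk (x k / x e0))).2
      (by rw [hsub, div_mul_cancel₀ _ hx, sub_self])
    rw [he, f_smul_right, mul_eq_zero, or_iff_right ha, hsub, sub_eq_zero] at h1
    exact h1
  have hcoord : ∀ x : Vec, x e0 = 1 → ∀ k, k ≠ e0 → π x k = FF k (x k) * π x e0 := fun x hx k hk => by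
    have := hcoord' x (hx ▸ one_ne_zero) k hk
    rwa [hx, div_one] at this
  have hlift : ∀ (k : I), k ≠ e0 → ∀ c : F, ∃ x : Vec, x e0 = 1 ∧ x k = c ∧
      ∀ l, l ≠ e0 → l ≠ k → x l = 0 := fun k hk c =>
    ⟨fun l => if l = e0 then 1 else if l = k then c else 0, if_pos rfl, by simp [hk],
      fun l hl hl' => by simp [hl, hl']⟩
  have hπe : ∀ x : Vec, x e0 = 1 → π x e0 ≠ 0 := fun x hx h => by
    have hx0 : x ≠ 0 := fun h0 => by simp [h0] at hx
    exact one_ne_zero (hx ▸ (hsupp x hx0 e0).1 h)
  have hF0 : ∀ k, k ≠ e0 → FF k 0 = 0 := fun k hk => by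
    obtain ⟨x, hx, hxk, -⟩ := hlift k hk 0
    have hx0 : x ≠ 0 := fun h => by simp [h] at hx
    have h1 := hcoord x hx k hk
    rw [(hsupp x hx0 k).2 hxk, hxk, eq_comm, mul_eq_zero, or_iff_left (hπe x hx)] at h1
    exact h1
  have hFinj : ∀ k, k ≠ e0 → Function.Injective (FF k) := fun k hk c d hcd => by
    obtain ⟨x, hx, hxk, hxo⟩ := hlift k hk c
    obtain ⟨y, hy, hyk, hyo⟩ := hlift k hk d
    have hx0 : x ≠ 0 := fun h => by simp [h] at hx
    have hy0 : y ≠ 0 := fun h => by simp [h] at hy
    obtain ⟨a, -, ha⟩ := hπ.par hx0 hy0 ⟨π y e0 / π x e0, div_ne_zero (hπe y hy) (hπe x hx), by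
      funext l
      rw [Pi.smul_apply, smul_eq_mul]
      by_cases hl : l = e0
      · subst hl; rw [div_mul_cancel₀ _ (hπe x hx)]
      · rw [hcoord x hx l hl, hcoord y hy l hl, mul_comm (FF l (x l)), ← mul_assoc,
          div_mul_cancel₀ _ (hπe x hx), mul_comm]
        by_cases hl' : l = k
        · subst hl'; rw [hxk, hyk, hcd]
        · rw [hxo l hl hl', hyo l hl hl']⟩
    have ha1 : a = 1 := by
      have := congrFun ha e0
      simpa [hx, hy] using this.symm
    rw [ha1, one_smul] at ha
    rw [← hxk, ← hyk, ha]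
  -- the orthogonality relation
  have hf0e : f0 ≠ e0 := by simp [hf0, he0]
  have hrel : ∀ i : Fin m, i ≠ ⟨0, by omega⟩ → ∀ z a b : F,
      FF f0 (z + a * b) = FF f0 z + FF (Sum.inr i) a * FF (Sum.inl i) b := by
    intro i hi z a b
    set ei : I := Sum.inr i with hei
    set fi : I := Sum.inl i with hfi
    have hie : ei ≠ e0 := by simp [hei, he0, hi]
    have hife : fi ≠ e0 := by simp [hfi, he0]
    have hif : ei ≠ f0 := by simp [hei, hf0]
    have hiff : fi ≠ f0 := by simp [hfi, hf0, hi]
    set X : F → F → Vec := fun a z =>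
      Pi.single e0 1 + a • Pi.single ei 1 + z • Pi.single f0 1
    set Y : F → F → Vec := fun b z =>
      Pi.single e0 1 + b • Pi.single fi 1 + z • Pi.single f0 1
    have hXe : ∀ a z, X a z e0 = 1 := fun a z => by simp [X, hie.symm, hf0e.symm]
    have hYe : ∀ a z, Y a z e0 = 1 := fun a z => by simp [Y, hife.symm, hf0e.symm]
    have hform : ∀ a z b z', sf (X a z) (Y b z') = z' - z + a * b := fun a z b z' => by
      simp only [X, Y, f_add_left, f_add_right, f_smul_left, f_smul_right, he0, hf0, hei, hfi,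
        sympForm_inr_inr, sympForm_inl_inl, sympForm_inr_inl, sympForm_inl_inr, if_pos,
        if_neg hi, if_neg (Ne.symm hi)]
      ring
    have hXi : ∀ a z, π (X a z) = π (X a z) e0 • X (FF ei a) (FF f0 z) := fun a z => by
      funext l
      rw [Pi.smul_apply, smul_eq_mul]
      by_cases hl : l = e0
      · subst hl; rw [hXe, mul_one]
      · rw [hcoord _ (hXe a z) l hl, mul_comm]
        congr 1
        by_cases h1 : l = ei
        · subst h1; simp [X, hie, hif]
        · by_cases h2 : l = f0
          · subst h2; simp [X, hf0e, hif.symm]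
          · simp [X, hl, h1, h2, hF0 l hl]
    have hYi : ∀ a z, π (Y a z) = π (Y a z) e0 • Y (FF fi a) (FF f0 z) := fun a z => by
      funext l
      rw [Pi.smul_apply, smul_eq_mul]
      by_cases hl : l = e0
      · subst hl; rw [hYe, mul_one]
      · rw [hcoord _ (hYe a z) l hl, mul_comm]
        congr 1
        by_cases h1 : l = fi
        · subst h1; simp [Y, hife, hiff]
        · by_cases h2 : l = f0
          · subst h2; simp [Y, hf0e, hiff.symm]
          · simp [Y, hl, h1, h2, hF0 l hl]
    have hX0 : ∀ a z, X a z ≠ 0 := fun a z h => by simpa [h] using hXe a z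
    have hY0 : ∀ a z, Y a z ≠ 0 := fun a z h => by simpa [h] using hYe a z
    have h1 := (hπ.2 _ _ (hX0 a (z + a * b)) (hY0 b z)).2 (by rw [hform]; ring)
    rw [hXi, hYi, f_smul_left, f_smul_right, mul_eq_zero, or_iff_right (hπe _ (hXe _ _)),
      mul_eq_zero, or_iff_right (hπe _ (hYe _ _)), hform] at h1
    linear_combination -h1
  obtain ⟨i1, hi1⟩ : ∃ i : Fin m, i ≠ ⟨0, by omega⟩ := ⟨⟨1, by omega⟩, by simp⟩
  have hprod : ∀ i : Fin m, i ≠ ⟨0, by omega⟩ → ∀ a b : F,
      FF f0 (a * b) = FF (Sum.inr i) a * FF (Sum.inl i) b := fun i hi a b => by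
    have := hrel i hi 0 a b
    rwa [zero_add, hF0 f0 hf0e, zero_add] at this
  set c := FF f0 1
  have hc : c ≠ 0 := fun h => one_ne_zero (hFinj f0 hf0e (h.trans (hF0 f0 hf0e).symm))
  set s : F → F := fun x => FF f0 x / c with hs
  have hne : ∀ k, k ≠ e0 → FF k 1 ≠ 0 := fun k hk h =>
    one_ne_zero (hFinj k hk (h.trans (hF0 k hk).symm))
  have hscale : ∀ i : Fin m, i ≠ ⟨0, by omega⟩ → ∀ a,
      FF (Sum.inr i) a = FF (Sum.inr i) 1 * s a ∧ FF (Sum.inl i) a = FF (Sum.inl i) 1 * s a := by
    intro i hi a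
    have h1 := hprod i hi a 1
    have h2 := hprod i hi 1 a
    have h3 := hprod i hi 1 1
    rw [mul_one] at h1 h3
    rw [one_mul] at h2
    have hA : FF (Sum.inr i) 1 ≠ 0 := hne _ (by simp [he0, hi])
    have hB : FF (Sum.inl i) 1 ≠ 0 := hne _ (by simp [he0])
    have hc' : FF (Sum.inr i) 1 * FF (Sum.inl i) 1 ≠ 0 := mul_ne_zero hA hB
    simp only [hs]
    refine ⟨?_, ?_⟩
    · rw [show c = FF (Sum.inr i) 1 * FF (Sum.inl i) 1 from h3, h1]
      field_simp
    · rw [show c = FF (Sum.inr i) 1 * FF (Sum.inl i) 1 from h3, h2]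
      field_simp
  have hadd : ∀ z w, s (z + w) = s z + s w := fun z w => by
    have h1 := hrel i1 hi1 z w 1
    rw [mul_one, ← hprod i1 hi1 w 1, mul_one] at h1
    simp only [hs, h1, add_div]
  have hmul : ∀ a b, s (a * b) = s a * s b := fun a b => by
    have h3 := hprod i1 hi1 1 1
    rw [mul_one] at h3
    simp only [hs]
    rw [hprod i1 hi1 a b, (hscale i1 hi1 a).1, (hscale i1 hi1 b).2]
    simp only [hs]
    rw [show c = _ from h3]
    field_simp
  let σh : F →+* F :=
    { toFun := s
      map_one' := div_self hc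
      map_mul' := hmul
      map_zero' := by simp [hs, hF0 f0 hf0e]
      map_add' := hadd }
  let σ : F ≃+* F := RingEquiv.ofBijective σh (Finite.injective_iff_bijective.1 σh.injective)
  have hσ : ∀ x, σ x = s x := fun _ => rfl
  set d : I → F := fun k => if k = e0 then 1 else FF k 1 with hd
  have hdne : ∀ k, d k ≠ 0 := fun k => by
    simp only [hd]
    split_ifs with h
    · exact one_ne_zero
    · exact hne k h
  have hFk : ∀ k, k ≠ e0 → ∀ a, FF k a = d k * σ a := by
    intro k hk a
    simp only [hd, if_neg hk, hσ]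
    rcases k with i | i
    · by_cases hi : i = ⟨0, by omega⟩
      · subst hi; simp only [hs]; rw [mul_div_cancel₀ _ hc]
      · exact (hscale i hi a).2
    · have hi : i ≠ ⟨0, by omega⟩ := fun h => hk (by rw [h])
      exact (hscale i hi a).1
  have hdd : ∀ i : Fin m, d (Sum.inr i) * d (Sum.inl i) = c := by
    intro i
    by_cases hi : i = ⟨0, by omega⟩
    · subst hi; simp only [hd]; rw [if_pos rfl, if_neg hf0e, one_mul]
    · simp only [hd]
      rw [if_neg (by simp [he0, hi]), if_neg (by simp [he0]), ← hprod i hi 1 1, mul_one]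
  let G : GL I F := Matrix.GeneralLinearGroup.mkOfDetNeZero (Matrix.diagonal d)
    (by rw [Matrix.det_diagonal]; exact Finset.prod_ne_zero_iff.2 fun k _ => hdne k)
  have hGv : ∀ v : Vec, (G : M) *ᵥ v = fun k => d k * v k := fun v => funext fun k => by
    simp [G, Matrix.GeneralLinearGroup.mkOfDetNeZero, Matrix.mulVec_diagonal]
  have hGf : ∀ u v : Vec, sf ((G : M) *ᵥ u) ((G : M) *ᵥ v) = c * sf u v := fun u v => by
    simp only [hGv, sympForm_eq, Finset.mul_sum]
    refine Finset.sum_congr rfl fun i _ => ?_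
    linear_combination (u (Sum.inr i) * v (Sum.inl i) - u (Sum.inl i) * v (Sum.inr i)) * hdd i
  refine ⟨⟨G, Units.mk0 c hc, hGf⟩, σ, fun x hx => ?_⟩
  change Par ((G : M) *ᵥ fun i => σ (x i)) (π x)
  -- vectors with non-zero first coordinate
  have hone : ∀ y : Vec, y e0 ≠ 0 → Par ((G : M) *ᵥ fun i => σ (y i)) (π y) := fun y hy => by
    have hπy : π y e0 ≠ 0 := fun h => hy ((hsupp y (fun h0 => by simp [h0] at hy) e0).1 h)
    have hσy : σ (y e0) ≠ 0 := by simpa using hy
    refine ⟨π y e0 / σ (y e0), div_ne_zero hπy hσy, funext fun k => ?_⟩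
    rw [Pi.smul_apply, hGv, smul_eq_mul]
    by_cases hk : k = e0
    · subst hk; simp only [hd, if_pos rfl]; field_simp
    · rw [hcoord' y hy k hk, hFk k hk, map_div₀]; field_simp
  have hGσ0 : ∀ y : Vec, y ≠ 0 → (G : M) *ᵥ (fun i => σ (y i)) ≠ 0 := fun y hy h => hy (funext fun k => by
    have := congrFun h k
    rw [hGv] at this
    simpa [hdne k] using this)
  by_cases hxe : x e0 = 0
  · refine par_of_perp (hGσ0 x hx) (hπ.1 x hx) fun z hz => ?_
    obtain ⟨y, rfl⟩ : ∃ y : Vec, (G : M) *ᵥ (fun i => σ (y i)) = z := by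
      refine ⟨fun i => σ.symm (z i / d i), funext fun k => ?_⟩
      rw [hGv]; simp [mul_div_cancel₀ _ (hdne k)]
    rw [hGf, mul_eq_zero, or_iff_right hc, sympForm_map, map_eq_zero] at hz
    -- two vectors with the first coordinate non-zero
    have hnz : ∀ y : Vec, y e0 ≠ 0 → sf x y = 0 → sf (π x) ((G : M) *ᵥ fun i => σ (y i)) = 0 := by
      intro y hy hxy
      have h1 := (hπ.2 x y hx (fun h => by simp [h] at hy)).2 hxy
      rwa [(hone y hy).perp_iff_right] at h1
    by_cases hye : y e0 = 0
    · by_cases hy1 : ∃ y1 : Vec, y1 e0 ≠ 0 ∧ sf x y1 = 0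
      · obtain ⟨y1, hy1, hxy1⟩ := hy1
        have h3 := hnz (y + y1) (by simpa [hye] using hy1) (by rw [f_add_right, hz, hxy1, add_zero])
        have h4 : ((G : M) *ᵥ fun i => σ ((y + y1) i)) =
            ((G : M) *ᵥ fun i => σ (y i)) + ((G : M) *ᵥ fun i => σ (y1 i)) := by
          rw [← Matrix.mulVec_add]
          congr 1
          funext i
          simp
        rw [h4, f_add_right, hnz y1 hy1 hxy1, add_zero] at h3
        exact h3
      · push Not at hy1
        -- `x` is a multiple of the partner of the first basis vector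
        have hxsupp : ∀ k, k ≠ f0 → x k = 0 := by
          intro k hk
          by_contra hne'
          by_cases hke : k = e0
          · exact hne' (hke ▸ hxe)
          refine hy1 (Pi.single e0 1 + (-sf x (Pi.single e0 1) / x k) • dualVec k) ?_ ?_
          · have h0 : (dualVec k : Vec) e0 = 0 := by
              by_contra h3
              have h5 := (dualVec_apply k e0).1 h3
              exact hk (by rw [← Sum.swap_swap k, ← h5, he0, hf0]; rfl)
            simp [h0]
          · rw [f_add_right, f_smul_right, form_dualVec, div_mul_cancel₀ _ hne', add_neg_cancel]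
        have h1 : Par (Pi.single f0 1) x := ⟨x f0, fun h => hx (funext fun k => by
          by_cases hk : k = f0
          · subst hk; exact h
          · exact hxsupp k hk), funext fun k => by
          by_cases hk : k = f0
          · subst hk; simp
          · simp [hk, hxsupp k hk]⟩
        -- the image of such a vector is again such a multiple
        have hsup2 : ∀ k, k ≠ f0 → π x k = 0 := fun k hk => (hsupp x hx k).2 (hxsupp k hk)
        have h6 : π x = π x f0 • Pi.single f0 1 := funext fun k => by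
          by_cases hk : k = f0
          · subst hk; simp
          · simp [hk, hsup2 k hk]
        rw [h6, f_smul_left, mul_eq_zero]
        right
        rw [sympForm_swap, neg_eq_zero, form_single_right, hGv]
        simp [hf0, show (Sum.inl (⟨0, by omega⟩ : Fin m) : I).swap = e0 from rfl, hye]
    · exact hnz y hye hz
  · exact hone x hxe

end Cfsg.Agent.AutPSp.Points
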